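import Cfsg.Agent.Ub.A
import Cfsg.Agent.Ub.Ca
import Cfsg.Agent.Ub.Z
import Cfsg.Agent.Ua.P
import Cfsg.Agent.S1173

/-! Commuting maximal pairs. -/

set_option autoImplicit false
set_option linter.unusedSectionVars false

namespace CF.Ub

open Subgroup Cfsg CF.BG CF.Sig CF.Ab2 CF.Recog Equiv Equiv.Perm
open CF.GW hiding DT DC
open CF.Sol2A (ι PP Dn TB WF IC cs cc sw pc_sw oH cm_inv cm_mem cz_comm iv_notO eo_O e2_of e2_pow eo_of)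
open CF.StA (dt D4 DT VV)
open CF.AF (sc th Sb Se)
open CF.Ua
open scoped commutatorElement

local notation "Alt" => alternatingGroup

universe u
variable {X : Type u} [Group X] [Finite X] {n m k : ℕ}
  {a b c d e g l r s t u v w x y z : X} {A G H I J K K' L Q S T Y : Subgroup X} {β : X → Subgroup X → Prop}
  {ρ ρ' μ α η : X → Perm (Fin n)} {ν : X → Perm (Fin m)} {j : Fin m ↪ Fin n} {σ τ γ : Perm (Fin n)}

namespace C

theorem gold [IsSimpleGroup X] (hS : Syl 2 S ⊤) (l : T ≤ S) (sc : ∀ x ∈ T, ∀ g, g * x * g⁻¹ ∈ S → g * x * g⁻¹ ∈ T)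
    (i : Iv u) (h : PC J H) (c : J ≤ 𝐂 T) : 𝐂 T = ⊤ := by
  have := Fact.mk p2
  obtain ⟨P, rfl⟩ := hS.exists_sylow_top
  have n := Agent.S1173.result (oddCore_eq.trans ((normalIn_top.1 (O_normal _ ⊤)).eq_bot_or_eq_top.resolve_right
    fun e => iv_notO i (e.ge (mem_top u)))) P T ⟨l, sc⟩
  have b : ∀ j, J ≤ (derivedSeries (𝐂 T) j).map (𝐂 T).subtype := fun j => by
    induction j with
    | zero => exact fun x hx => ⟨⟨x, c hx⟩, trivial, rfl⟩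
    | succ j ih =>
      rw [derivedSeries_succ, map_commutator]
      exact h.perfect.ge.trans (commutator_mono ih ih)
  refine top_le_iff.1 ((n.eq_bot_or_eq_top.resolve_left fun e => h.ne_bot (eq_bot_iff.2
    (e ▸ fun x hx => ⟨⟨x, c hx⟩, mem_iInf.2 fun j => ?_, rfl⟩))).ge.trans (map_subtype_le _))
  obtain ⟨y, hy, e⟩ := b j hx
  exact (Subtype.ext e : y = ⟨x, c hx⟩) ▸ hy

theorem cen {D : Set X} (cl : ∀ u ∈ D, ∀ g, g * u * g⁻¹ ∈ D) (iv : ∀ u ∈ D, Iv u)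
    (ml : ∀ u ∈ D, ∀ v ∈ D, v ∈ 𝐂₁ u → u ≠ v → u * v ∈ D) (ht : t ∈ D) :
    ∃ u ∈ D, ∃ S, Syl 2 S ⊤ ∧ u ∈ S ∧ S ≤ 𝐂₁ u := by
  obtain ⟨T, ⟨pT, u, hu, uT, c⟩, mx⟩ := exists_maximal_of_wellFoundedGT
    (fun T : Subgroup X => P2 T ∧ ∃ u ∈ D, u ∈ T ∧ T ≤ 𝐂₁ u)
    ⟨zpowers t, (iv t ht).piGrp, t, ht, mem_zpowers t, zpowers_le.2 (self_mem_cent1 t)⟩
  obtain ⟨S, hS, l⟩ := exists_syl_le le_top pT
  refine ⟨u, hu, T, by_contra fun ns => ?_, uT, c⟩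
  obtain ⟨g0, ⟨g1, g2⟩, g3⟩ := SetLike.exists_of_lt (hS.pi.nil.lt_inf_norm (l.lt_of_ne fun e => ns (e ▸ hS)))
  obtain ⟨g, m, k, e⟩ := CT.exists_sq_mem (hS.pi.elt g1) g3
  have gN := zpowers_le.2 g2 m
  have key : ∀ w ∈ D, w ∈ T → T ≤ 𝐂₁ w → g ∈ 𝐂₁ w → False := fun w a b c' d =>
    k (mx ⟨hS.pi.le (sup_le l (zpowers_le.2 (zpowers_le.2 g1 m))), w, a, mem_sup_left b, sup_le c' (zpowers_le.2 d)⟩
      le_sup_left (mem_sup_right (mem_zpowers g)))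
  have vT := conj_mem_of_norm gN uT
  have c' : T ≤ 𝐂₁ (g * u * g⁻¹) := by rw [← cj_cent1, ← cj_of_norm gN]; exact cj_mono g c
  by_cases ne : u = g * u * g⁻¹
  · exact key u hu uT c (mem_cent1.2 (mul_inv_eq_iff_eq_mul.1 ne.symm))
  · refine key _ (ml u hu _ (cl u hu g) (c vT) ne) (mul_mem uT vT) (fun x hx => mem_cent1.2
      (Commute.mul_right (mem_cent1.1 (c hx)) (mem_cent1.1 (c' hx)))) (mem_cent1.2 (mul_inv_eq_iff_eq_mul.1 ?_))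
    have t2 := cc (c e)
    rw [pow_two] at t2
    calc g * (u * (g * u * g⁻¹)) * g⁻¹ = g * u * g⁻¹ * (g * g * u * (g * g)⁻¹) := by group
      _ = _ := by rw [t2, mem_cent1.1 (c vT)]

theorem lk (h : Ca β n) (uq : Uq β n) (k : MP β n t K ρ) (k' : MP β n r L μ) (z : r ∈ Zt t K) (c : x ∈ 𝐂₁ t)
    (c' : x ∈ 𝐂₁ r) : x ∈ Cz L ↔ x ∈ Cz K := by
  obtain ⟨L', μ', p, -, -, -, -, vw⟩ := h.link k k'.iv z
  obtain ⟨u, v⟩ := vw x (nrm h uq k c) c c'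
  rw [uq k' p, ← p.vw.ker u, v, k.vw.ker (nrm h uq k c)]

end C

open C

theorem Ca.claim1 [IsSimpleGroup X] (h : Ca β n) (uq : Uq β n) (k : MP β n t K ρ) :
    ∃ t K ρ s L μ, MP β n t K ρ ∧ MP β n s L μ ∧ s ∈ 𝐂₁ t ∧ s ∉ Cz K := by
  by_contra! z
  obtain ⟨u, ⟨K, ρ, k⟩, S, hS, uS, c⟩ := cen (D := {u | ∃ K ρ, MP β n u K ρ}) (t := t)
    (fun u ⟨_, _, p⟩ g => ⟨_, _, p.cj h.bt (mem_top g)⟩) (fun u ⟨_, _, p⟩ => p.iv)
    (fun u ⟨_, _, p⟩ v ⟨_, _, q⟩ c ne => (h.link p (p.iv.mul q.iv (mem_cent1.1 c).symm ne)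
      (mul_mem p.tz ⟨c, z _ _ _ _ _ _ p q c⟩)).imp fun _ => .imp fun _ => And.left) ⟨K, ρ, k⟩
  obtain ⟨J, pJ, -⟩ := pc_down k.pc (hS.pi.inf_left (K := Cz K)) inf_le_right
  refine h.zc k.iv (top_le_iff.1 ((gold hS inf_le_left (fun x hx g m => ⟨m, ?_⟩) k.iv pJ
    (pJ.le.trans inf_le_right)).ge.trans (cent_le_cent1 ⟨uS, k.tz.2⟩)))
  by_cases x1 : x = 1
  · simp [x1]
  obtain ⟨v, mv, iv⟩ := exists_iv_of_two (piGrp_zpowers.2 (hS.pi.elt hx.1)) (zpowers_ne_bot.2 x1)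
  have zv : v ∈ Zt u K := zpowers_le.2 (mem_inf.2 ⟨c hx.1, hx.2⟩) mv
  obtain ⟨L, μ, p, -⟩ := h.link k iv zv
  have xv : x ∈ 𝐂₁ v := cs (zpowers_le.2 (self_mem_cent1 x) mv)
  have q := p.cj h.bt (mem_top g)
  have cv : g * v * g⁻¹ ∈ 𝐂₁ u := c (zpowers_le.2 m (cj_zpowers g x ▸ conj_mem_cj.2 mv))
  exact (lk h uq k q ⟨cv, z _ _ _ _ _ _ k q cv⟩ (c m) (cj_cent1 g v ▸ conj_mem_cj.2 xv)).1
    (cj_Cz g L ▸ conj_mem_cj.2 ((lk h uq k p zv (c hx.1) xv).2 hx.2))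

namespace C

/-- the views of the elements of `Y` -/
def img (h : Vw n K ρ) (Y : Subgroup X) : Subgroup (Perm (Fin n)) where
  carrier := {σ | ∃ l ∈ K, l ∈ Y ∧ ρ l = σ}
  one_mem' := ⟨1, one_mem _, one_mem _, h.one⟩
  mul_mem' := fun ⟨a, a1, a2, a3⟩ ⟨b, b1, b2, b3⟩ =>
    ⟨a * b, mul_mem a1 b1, mul_mem a2 b2, by rw [h.mul (h.nK a1) (h.nK b1), a3, b3]⟩
  inv_mem' := fun ⟨a, a1, a2, a3⟩ => ⟨a⁻¹, inv_mem a1, inv_mem a2, by rw [h.inv (h.nK a1), a3]⟩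

theorem small (c : sc τ + 3 = n) (k : Commute γ τ) (e : E2 γ) (f : ∀ x, τ x ≠ x → γ x = x) :
    γ * γ = 1 ∧ (γ = 1 ∨ sc γ = 2) := by
  obtain ⟨i, e⟩ := e2_pow e
  have s : γ * γ = 1 := Equiv.ext fun x => by
    by_cases o : τ x = x
    · exact Sol2A.three (by rw [Fintype.card_fin]; exact c.ge) k e o
    · rw [mul_apply, f x o, f x o, one_apply]
  obtain ⟨i, -, e'⟩ := AF.ct_sq s
  have : sc γ ≤ τ.supportᶜ.card := Finset.card_le_card fun x m => by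
    rw [Finset.mem_compl, mem_support]; exact fun o => mem_support.1 m (f x o)
  rw [Finset.card_compl, Fintype.card_fin] at this
  refine ⟨s, (em _).imp_right fun o => ?_⟩
  have := AF.sc_zero.not.2 o
  simp only [sc] at *
  omega

/-- commuting maximal pairs which are not linked -/
structure UL (β : X → Subgroup X → Prop) (n : ℕ) (t : X) (K : Subgroup X) (ρ : X → Perm (Fin n)) (s : X) (L : Subgroup X)
    (μ : X → Perm (Fin n)) : Prop where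
  ca : Ca β n
  uq : Uq β n
  m2 : M2 β n
  nf : ∀ t K ρ a L μ, MP β n t K ρ → MP β n a L μ → a ∈ K → sc (ρ a) ≠ 4
  l : MP β n t K ρ
  r : MP β n s L μ
  c : s ∈ 𝐂₁ t
  nz : s ∉ Cz K

namespace UL
variable (h : UL β n t K ρ s L μ)
include h

theorem symm : UL β n s L μ t K ρ := ⟨h.ca, h.uq, h.m2, h.nf, h.r, h.l, cs h.c, fun z =>
  h.nz ((lk h.ca h.uq h.r h.l ⟨cs h.c, z⟩ (self_mem_cent1 s) h.c).2 h.r.tz.2)⟩

theorem nK : 𝐂₁ t ≤ 𝐍 K := nrm h.ca h.uq h.l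

theorem sN : s ∈ 𝐍 K := h.nK h.c

theorem s1 : ρ s ≠ 1 := fun e => h.nz ((h.l.vw.ker h.sN).1 e)

theorem sq : ρ s * ρ s = 1 := h.l.vw.sq h.sN h.r.iv.sq

theorem z1 (e : E2 r) (a : r ∈ Zt t K) (b : r ∈ Zt s L) : r = 1 := by_contra fun r1 => by
  obtain ⟨v, mv, iv⟩ := exists_iv_of_two (piGrp_zpowers.2 e) (zpowers_ne_bot.2 r1)
  have a' := zpowers_le.2 a mv
  have b' := zpowers_le.2 b mv
  obtain ⟨Y, η, p, -⟩ := h.ca.link h.l iv a'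
  exact h.nz ((lk h.ca h.uq h.l p a' h.c (cs b'.1)).1
    ((lk h.ca h.uq h.r p b' (self_mem_cent1 s) (cs b'.1)).2 h.r.tz.2))

theorem no2 (hl : l ∈ K) (z : l ∈ Zt s L) : ¬ DT (ρ l) := fun d => by
  obtain ⟨b, m, i, e⟩ := p2d h.l.vw hl d
  obtain ⟨Y, η, p, -⟩ := h.ca.link h.r i (zpowers_le.2 z m)
  exact h.nf _ _ _ _ _ _ h.l p (zpowers_le.2 hl m) (e ▸ d.2)

theorem deg (m5 : sc (ρ s) + 5 ≤ n) : sc (μ t) = sc (ρ s) := by
  obtain ⟨m, I, ν, j, f, pI⟩ := fx h.ca h.l h.r.iv h.c h.sN m5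
  rcases h.r.vw.tri h.ca.odd h.r.pc h.l.iv (cs h.c) h.symm.sN (pc_sw pI) with z | ⟨m', ν', j', f'⟩
  · obtain ⟨l, hl, e⟩ := f.vI.surj _ (sg (D4.dT (Ω := Fin m) (a := ⟨0, by have := f.vI.n5; omega⟩)
      (b := ⟨1, by have := f.vI.n5; omega⟩) (c := ⟨2, by have := f.vI.n5; omega⟩) (d := ⟨3, by have := f.vI.n5; omega⟩)
      (by constructor <;> simp)))
    obtain ⟨b, m, i, e'⟩ := p2d f.vI hl (e ▸ D4.dT (by constructor <;> simp))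
    have bI := zpowers_le.2 hl m
    exact (h.no2 (f.le bI) ⟨f.cI bI, z bI⟩ ⟨h.l.vw.sq (h.l.vw.nK (f.le bI)) i.sq, by
      rw [← sc, f.sc_eq bI, e', e]; exact (D4.dT (by constructor <;> simp)).2⟩).elim
  · have := f.deg
    have := f'.deg
    have := f.vI.deg f'.vI
    omega

theorem four' (e : E2 r) (z : r ∈ Zt t K) (c : r ∈ 𝐂₁ s) (f : ∀ x, μ t x ≠ x → μ r x = x)
    (k : sc (μ t) + 3 = n ∨ ∀ x, μ t x = x → μ r x = x) : r = 1 := by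
  have rN := h.symm.nK c
  have v := h.r.vw
  have o : μ r = 1 → r = 1 := fun o => h.z1 e z ⟨c, (v.ker rN).1 o⟩
  rcases k with k | k
  swap
  · exact o (Equiv.ext fun x => (em _).elim (k x) (f x))
  obtain ⟨i, e'⟩ := e2_pow e
  obtain ⟨s2, w⟩ := small k (v.comm rN h.symm.sN (mem_cent1.1 z.1)) (e2_of (by rw [← v.pow rN, e', v.one])) f
  refine w.elim o fun w => by_contra fun r1 => ?_
  have i : Iv r := .mk' r1 (h.z1 (e.mul e rfl) (mul_mem z z) ⟨mul_mem c c, (v.ker (mul_mem rN rN)).1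
    (by rw [v.mul rN rN, s2])⟩)
  obtain ⟨Y, η, p, -, -, -, -, vw⟩ := h.ca.link h.l i z
  have U : UL β n r Y η s L μ := ⟨h.ca, h.uq, h.m2, h.nf, p, h.r, cs c,
    fun o => h.nz ((lk h.ca h.uq h.l p z h.c (cs c)).1 o)⟩
  have n9 := h.ca.n9
  have a := U.symm.deg (by omega)
  rw [(vw s h.sN h.c (cs c)).2] at a
  have b := h.deg (by omega)
  omega

theorem four (e : E2 r) (z : r ∈ Zt t K) (c : r ∈ 𝐂₁ s) : r = 1 ∨ r = t := by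
  have rN := h.symm.nK c
  have tN := h.symm.sN
  have v := h.r.vw
  have nZ : 𝐂₁ t ≤ 𝐍 (Zt t K) := norm_inf (le_norm_self _) (norm_Cz h.nK)
  have lf : ∀ c ∈ Alt (Fin n), Commute c (μ t) → ∃ l ∈ L, l ∈ 𝐂₁ t ∧ μ l = c := fun c a b =>
    l1 v h.l.iv.piElt tN (mem_alternatingGroup.1 a) b
  rcases px h.ca.odd h.ca.n9 h.symm.sq h.symm.s1 (R := img v (Zt t K)) (γ := μ r) (fun c a b x ⟨l, l1, l2, l3⟩ => by
      obtain ⟨g, g1, g2, rfl⟩ := lf c a b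
      exact ⟨g * l * g⁻¹, mul_mem (mul_mem g1 l1) (inv_mem g1), conj_mem_of_norm (nZ g2) l2,
        l3 ▸ v.conj (v.nK g1) (v.nK l1)⟩)
    (fun x ⟨l, l1, l2, l3⟩ => l3 ▸ h.symm.no2 l1 l2) (v.comm rN tN (mem_cent1.1 z.1)) (fun c a b => by
      obtain ⟨g, g1, g2, rfl⟩ := lf c a b
      exact ⟨⁅r, g⁆, cm_mem rN g1, cm_inv (cm_mem (nZ g2) z), v.cm rN (v.nK g1)⟩) with ⟨f | f, k⟩ | ⟨n9, t8, -, k⟩
  · exact .inl (h.four' e z c f k)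
  · refine .inr ((eq_inv_of_mul_eq_one_left (h.four' (e.mul h.l.iv.piElt (mem_cent1.1 z.1)) (mul_mem z h.l.tz)
      (mul_mem c (cs h.c)) (fun x o => ?_) (k.imp_right fun k x o => ?_))).trans h.l.iv.inv_eq)
    · rw [v.mul rN tN, mul_apply, f _ (fun w => o ((μ t).injective w)), StA.ap2 h.symm.sq]
    · rw [v.mul rN tN, mul_apply, o, k x o]
  · obtain ⟨b, b1, b2, b3, b4, b5⟩ := der (Z := Cz L) h.ca h.l h.r.iv h.sN (fun l _ c => norm_Cz h.symm.nK c)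
      fun l u cl o => by
        have lN := h.symm.nK cl
        refine (v.ker lN).1 (k _ (v.comm lN tN (mem_cent1.1 (h.l.pc.le u))) (eo_iff.2 (veo v lN o)) fun c' a b => ?_)
        obtain ⟨g, g1, g2, rfl⟩ := lf c' a b
        have gs := h.r.pc.le g1
        have cg : g * r * g⁻¹ ∈ 𝐂₁ s := mul_mem (mul_mem gs c) (inv_mem gs)
        rw [← v.conj (v.nK g1) rN, ← commutatorElement_eq_one_iff_commute, ← v.cm lN (h.symm.nK cg)]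
        exact (v.otriv h.ca.odd h.r.pc h.l.iv (cs h.c) tN (sw (F := fun H => 𝒪 H) (oH h.l.pc
          (cm_inv (cz_comm (conj_mem_of_norm (nZ g2) z).2 u)) (cm_mem (le_norm_self _ cl) cg)))).2.2 (by omega)
    exact (h.no2 b1 ⟨b2, b3⟩ ⟨h.l.vw.sq (h.l.vw.nK b1) b4.sq, b5⟩).elim

theorem odd : sign (ρ s) = -1 ∧
    ∃ d ∈ K, Iv d ∧ d ∈ 𝐂₁ s ∧ (∃ g, g * s * g⁻¹ = s * d) ∧ ∃ g, g * s * g⁻¹ = s * d * t := by
  have nZ : zpowers s ≤ 𝐍 (Zt t K) := zpowers_le.2 (norm_inf (le_norm_self _) (norm_Cz h.nK) h.c)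
  obtain ⟨T, hT, l⟩ := exists_syl_le (le_sup_right : zpowers s ≤ Zt t K ⊔ zpowers s) h.r.iv.piGrp
  have hQ := hT.inf_normal (normalIn_sup_left nZ)
  have lQ : T ⊓ Zt t K ≤ 𝐂₁ t := inf_le_right.trans inf_le_left
  have sT := l (mem_zpowers s)
  obtain ⟨r, r1, r2, -, r3⟩ := ex_r hQ.pi h.l.iv h.r.iv h.c (norm_inf (zpowers_le.2 (le_norm_self _ sT)) nZ (mem_zpowers s))
    (hQ.mem_of_norm h.l.tz (cent_le_norm _ (le_cent1_iff.1 lQ)) h.l.iv.piElt) lQ fun k => by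
      obtain ⟨y, y1, y2, y3⟩ := h.m2 h.l
      have f : FP y t := ⟨y1, h.l.iv, mem_cent1.1 y2.1, y3⟩
      have := Nat.le_of_dvd (card_pos' _) (hQ.dvd_card (card_dvd (sup_le (zpowers_le.2 y2) (zpowers_le.2 h.l.tz))) f.pi)
      have := card_le k
      rw [f.card] at *
      rw [h.l.iv.card] at this
      omega
  have no : ∀ y ∈ Zt t K, y ∈ 𝐂₁ s → E2 y → y ∈ zpowers t := fun y a b c => h.l.iv.mem_zpowers.2 (h.four c a b)
  obtain ⟨⟨d, d1, d2, d3, ⟨g, -, d4⟩, g', -, d5⟩, k⟩ := h.l.inv h.r.iv h.c h.sN h.s1 r1.2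
    (hT.pi.le (sup_le (zpowers_le.2 r1.1) l)) (r3.resolve_left fun c => r2 (no r r1.2 (mem_cent1.2 c) (hQ.pi.elt r1)))
  exact ⟨k.resolve_right fun ⟨y, a, b, c, e⟩ => (h.four c.piElt a b).elim c.ne_one e, d, d1, d2, d3, ⟨g, d4⟩, g', d5⟩

theorem false : False := by
  obtain ⟨o, d, d1, d2, d3, ⟨g, d4⟩, g', d5⟩ := h.odd
  have v := h.l.vw
  have dt := h.l.pc.le d1
  have ts := cs h.c
  have key : ∀ x g, g * s * g⁻¹ = s * x → x ∈ 𝐂₁ s → x ∈ 𝐂₁ t → E2 x → x ≠ 1 → x ∈ 𝐍 K → ρ x = ρ d →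
      sign (μ (s * x)) = -1 := fun x g e c c' e2 x1 xN f => by
    have p := h.r.cj h.ca.bt (mem_top g)
    rw [e] at p
    refine (UL.odd ⟨h.ca, h.uq, h.m2, h.nf, h.r, p, mul_mem (self_mem_cent1 s) c, fun z => ?_⟩).1
    refine (h.symm.four e2 ⟨c, ((Cz L).mul_mem_cancel_left h.r.tz.2).1 z⟩ c').elim x1 fun k => ?_
    rw [← k, f, v.sgn d1] at o
    exact absurd o (by decide)
  have a := key d g d4 d3 dt d2.piElt d2.ne_one (v.nK d1) rfl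
  have tK := Cz_norm K h.l.tz.2
  have b := key (d * t) g' (d5.trans (mul_assoc _ _ _)) (mul_mem d3 ts) (mul_mem dt (self_mem_cent1 t))
    (d2.piElt.mul h.l.iv.piElt (mem_cent1.1 dt)) (fun e => nzK h.l (eq_inv_of_mul_eq_one_right e ▸ inv_mem d1))
    (mul_mem (v.nK d1) tK) (by rw [v.mul (v.nK d1) tK, v.cz h.l.tz.2, mul_one])
  rw [← mul_assoc, h.r.vw.mul (h.symm.nK (mul_mem (self_mem_cent1 s) d3)) h.symm.sN, map_mul, a, h.symm.odd.1] at b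
  exact absurd b (by decide)

end UL

end C

theorem Ca.nf (h : Ca β n) (uq : Uq β n) (m2 : M2 β n)
    (nf : ∀ t K ρ a L μ, MP β n t K ρ → MP β n a L μ → a ∈ K → sc (ρ a) ≠ 4) (k : MP β n t K ρ) (k' : MP β n s L μ)
    (c : s ∈ 𝐂₁ t) : s ∈ Cz K := by_contra fun z => UL.false ⟨h, uq, m2, nf, k, k', c, z⟩

end CF.Ub
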