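import Cfsg.Agent.Ub.A
import Cfsg.Agent.Ub.Sa3

/-! The standard configuration: the class of `t`. -/

set_option autoImplicit false
set_option linter.unusedSectionVars false

namespace CF.Ub

open Subgroup Cfsg CF.BG CF.Sig CF.Ab2 CF.Recog Equiv Equiv.Perm
open CF.GW hiding DT DC
open CF.Sol2A (ι PP Dn TB WF IC cc cs pc_sw)
open CF.StA (dt D4 DT VV)
open CF.AF (sc th Sb Se)
open CF.Ua
open scoped commutatorElement

local notation "Alt" => alternatingGroup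

universe u
variable {X : Type u} [Group X] [Finite X] {n m : ℕ}
  {a b c d e g l r s t v w x y : X} {A G H I J K L M P Q R U W Y : Subgroup X} {β : X → Subgroup X → Prop}
  {ρ μ α η : X → Perm (Fin n)} {ν : X → Perm (Fin m)} {j : Fin m ↪ Fin n} {σ τ γ δ : Perm (Fin n)}
  {p q p' q' : Fin n} {D : Set X} {Kf : X → Subgroup X} {ρf : X → X → Perm (Fin n)}

namespace Sa

/-- the view of a subgroup -/
def vim (v : Vw n K ρ) (l : A ≤ 𝐍 K) : Subgroup (Perm (Fin n)) where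
  carrier := {σ | ∃ x ∈ A, ρ x = σ}
  mul_mem' := fun ⟨x, a, b⟩ ⟨y, c, d⟩ => ⟨_, mul_mem a c, by rw [v.mul (l a) (l c), b, d]⟩
  one_mem' := ⟨1, one_mem _, v.one⟩
  inv_mem' := fun ⟨x, a, b⟩ => ⟨_, inv_mem a, by rw [v.inv (l a), b]⟩

theorem tw3 {θ : Perm (Fin n)} (h3 : θ ^ 3 = 1) (c : Commute θ τ) (tt : τ * τ = 1) (t1 : τ ≠ 1)
    (k : θ * γ * θ⁻¹ = γ ∨ θ * γ * θ⁻¹ = τ * γ) : Commute θ γ := by
  refine mul_inv_eq_iff_eq_mul.1 (k.resolve_right fun k => t1 ?_)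
  have e : θ * τ * θ⁻¹ = τ := by rw [c.eq, mul_inv_cancel_right]
  have a : θ ^ 3 * γ * (θ ^ 3)⁻¹ = θ * (θ * (θ * γ * θ⁻¹) * θ⁻¹) * θ⁻¹ := by simp [pow_succ, mul_assoc]
  have b : θ * (τ * γ) * θ⁻¹ = γ := by rw [← conj_mul, e, k, ← mul_assoc, tt, one_mul]
  rw [k, b, k, h3] at a
  simpa using a.symm

theorem sc_odd (e : τ * τ = 1) (s : sign τ = -1) : sc τ % 4 = 2 := by
  obtain ⟨i, a, b⟩ := AF.ct_sq e
  have := sign_of_cycleType τ
  rw [s, a, Multiset.sum_replicate, Multiset.card_replicate, smul_eq_mul] at this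
  obtain ⟨r, hr⟩ : Odd (i * 2 + i) := Nat.not_even_iff_odd.1 fun o => by rw [o.neg_one_pow] at this; exact absurd this (by decide)
  omega

namespace Sk
variable (h : Sk β n t K ρ s L μ)
include h

theorem t2 (he : e ∈ K) (i : Iv e) (ty : sc (ρ e) = 4) (k : MP β n e A α) : t ∈ A ∧ sc (α t) = 4 :=
  let k := ((h.all' he i ty).2 k).symm; ⟨k.sK, k.ty⟩

theorem ty2 (k : MP β n d A α) (cj : IsConj t d) (c : d ∈ 𝐂₁ t) (m5 : sc (ρ d) + 5 ≤ n) : sc (α t) = sc (ρ d) := by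
  obtain ⟨m, I, ν, j, F, p, l⟩ := h.cx.ty h.pt k c m5
  obtain ⟨_, _, _, k'⟩ := h.of cj k
  refine l.resolve_left fun l => p.not_sol ((od_sol (O_pi _ _)).mono (p.perfect.ge.trans (le_trans ?_ k'.cmz)))
  exact commutator_mono (le_inf F.cI l) (le_inf F.cI l)

theorem even (cj : IsConj t d) (c : d ∈ 𝐂₁ t) (e : sign (ρ d) = 1) (nz : d ∉ Cz K) : d ∈ K ∧ sc (ρ d) = 4 := by
  obtain ⟨A, α, _, _, _, k⟩ := h.cj cj
  have v := k.pt.vw
  have id := k.pt.iv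
  have N := fun x => h.cx.nrm k.pt (g := x)
  have tN := N t (cs c)
  have tt := v.sq tN h.pt.iv.sq
  have t1 : α t ≠ 1 := fun a => h.cx.nzs h.pt k.pt c nz ((v.ker tN).1 a)
  have lA : Zt t K ⊓ A ≤ 𝐍 A := inf_le_right.trans (le_norm_self _)
  by_cases n2 : ∃ x ∈ vim v lA, DT x
  · obtain ⟨_, ⟨x, hx, rfl⟩, dx⟩ := n2
    obtain ⟨e, he, e1, e2⟩ := v.part2 (lA hx) (e2 dx.1)
    have he := zpowers_le.2 hx he
    have eN := lA he
    have ie : Iv e := .mk' (fun a => dx.ne_one (by rw [← e2, a, v.one]))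
      (v.inj2 (mul_mem he.2 he.2) (e1.mul e1 rfl) (by rw [v.mul eN eN, e2, dx.1]))
    obtain ⟨M, η, k'⟩ := k.all he.2 ie (e2 ▸ dx.2)
    have z : t ∈ Zt e M := ⟨cs he.1.1, (h.cx.lk h.pt k'.ps he.1).1⟩
    exact ⟨(h.cx.lk k'.ps h.pt z).2.1 d k'.symm.sK c id.piElt,
      (h.cx.lks k'.ps h.pt z (cs k'.c) c).1.trans k'.symm.ty⟩
  exfalso
  obtain ⟨y, iy, z, ne, cy⟩ := h.cx.ev h.pt c id.sq e
  have yN := N y cy
  have lf := fun σ (s : sign σ = 1) (c : Commute σ (α t)) => lift1 v s ⟨h.pt.iv.piElt, tN, c⟩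
  have fin : ∀ {y}, Iv y → y ∈ Zt t K → y ∈ 𝐂₁ d → (∀ p, α t p ≠ p → α y p = p) →
      ¬ (sc (α t) + 3 = n ∨ ∀ p, α t p = p → α y p = p) := fun {y} iy z cy a b => by
    have y1 : α y ≠ 1 := fun a => iy.ne_one (h.cx.one1 h.pt k.pt c nz z ⟨cy, (v.ker (N y cy)).1 a⟩ iy.piElt)
    have s2 := sc_two (v.sq (N y cy) iy.sq) y1 (b.resolve_right fun b => y1 (Equiv.ext fun p =>
      (em (α t p = p)).elim (b p) (a p))) a
    have j := h.zD iy z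
    obtain ⟨M, η, _, _, _, k'⟩ := h.cj j
    have := k.ty2 k'.pt (cj.symm.trans j) cy (by have := h.cx.n9; omega)
    have := (h.cx.lks h.pt k'.pt z c (cs cy)).1
    have := AF.four_dvd (h.pt.vw.sq (h.cx.nrm h.pt c) id.sq) e
    omega
  rcases px h.cx.odd h.cx.n9 tt t1 (R := vim v lA) (fun σ s c _ ⟨x, hx, e⟩ => by
      obtain ⟨l, hl, l1, rfl⟩ := lf σ s c
      exact ⟨_, ⟨h.cx.zc' h.pt hx.1 l1, conj_mem_of_norm (v.nK hl) hx.2⟩, by rw [v.conj (v.nK hl) (lA hx), e]⟩)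
    (fun x hx a => n2 ⟨x, hx, a⟩) (v.comm yN tN (mem_cent1.1 z.1)) (fun σ s c => by
      obtain ⟨l, hl, l1, rfl⟩ := lf σ s c
      exact ⟨_, mem_inf.2 ⟨Sol2A.cm_inv (Sol2A.cm_mem ((h.cx.znor h.pt).norm l1) z), Sol2A.cm_mem yN hl⟩,
        v.cm yN (v.nK hl)⟩) with
    ⟨a | a, b⟩ | ⟨n9, s8, -, a⟩
  · exact fin iy z cy a b
  · refine fin (h.fp iy z ne).iv (mul_mem h.pt.tz z) (mul_mem (cs c) cy) (fun p hp => ?_) (b.imp_right fun b p hp => ?_)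
    · rw [v.mul tN yN, mul_apply, a p hp, StA.ap2 tt]
    · rw [v.mul tN yN, mul_apply, b p hp, hp]
  have yy := v.sq yN iy.sq
  have cs' : ∀ σ, sign σ = 1 → Commute σ (α t) → σ * α y * σ⁻¹ = α y ∨ σ * α y * σ⁻¹ = α t * α y := fun σ s c' => by
    obtain ⟨l, hl, l1, rfl⟩ := lf σ s c'
    have cl := mul_mem (mul_mem (k.pt.pc.le hl) cy) (inv_mem (k.pt.pc.le hl))
    have o : ∀ x ∈ Oc 2 t, x ∈ 𝐂₁ d → α x = 1 := fun x a b => (v.otriv h.cx.odd k.pt.pc h.pt.iv (cs c) tN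
      (inf_comm (𝐂₁ t) _ ▸ Sol2A.O_inf a b)).2.2 (by omega)
    rw [← v.conj (v.nK hl) yN]
    refine (h.cos iy z ne (iy.conj l) (h.cx.zc' h.pt z l1) fun e => ne (by rw [← cc l1] at e; simpa using e)).imp
      (fun a => ?_) fun a => ?_
    · have := o _ a (mul_mem cy cl)
      rw [v.mul yN (N _ cl), ← yy] at this
      exact mul_left_cancel this
    · have := o _ a (mul_mem (mul_mem (cs c) cy) cl)
      rw [v.mul (mul_mem tN yN) (N _ cl), ← v.sq (mul_mem tN yN) (h.fp iy z ne).iv.sq] at this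
      rw [mul_left_cancel this, v.mul tN yN]
  obtain ⟨θ, ε, h3, c1, -, -, d1, -⟩ := der2 h.cx.odd h.cx.n9 tt
  have sθ : sign θ = 1 := by simpa [pow_succ] using congrArg sign h3
  have c2 := tw3 h3 c1 tt t1 (cs' θ sθ c1)
  refine d1.ne_one ?_
  rw [a θ c1 (Odd.of_dvd_nat (by decide) (orderOf_dvd_of_pow_eq_one h3)) fun σ s c' =>
    (cs' σ s c').elim (fun e => e.symm ▸ c2) fun e => e.symm ▸ c1.mul_right c2, commutatorElement_one_left]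

theorem odd (cj : IsConj t d) (c : d ∈ 𝐂₁ t) (e : sign (ρ d) = -1) : sc (ρ d) = 2 := by_contra fun n2 => by
  have v := h.pt.vw
  have id : Iv d := by obtain ⟨g, rfl⟩ := isConj_iff.1 cj; exact h.pt.iv.conj g
  have dN := h.cx.nrm h.pt c
  have dd := v.sq dN id.sq
  have := sc_odd dd e
  obtain ⟨p, hp, -⟩ := P.mv (ρ d) [] (by rw [List.length_nil]; omega)
  obtain ⟨q, hq, a⟩ := P.mv (ρ d) [p, ρ d p] (by simp; omega)
  simp only [List.mem_cons, List.not_mem_nil, or_false, not_or] at a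
  have f := StA.D4.of_inv dd hp hq a.1 a.2
  have c1 : Commute (dt p (ρ d p) q (ρ d q)) (ρ d) := (P.sw rfl (StA.ap2 dd p)).mul_left (P.sw rfl (StA.ap2 dd q))
  have l : V4 t d ≤ cs' v (dt p (ρ d p) q (ρ d q)) ⊓ cs' v (dt p q (ρ d p) (ρ d q)) := V4_le.2
    ⟨⟨⟨(okt h.pt (σ := 1)).n, (okt h.pt).c⟩, (okt h.pt (σ := 1)).n, (okt h.pt).c⟩, ⟨dN, c1⟩, dN, P.cb dd f⟩
  obtain ⟨e, he, u, hu, e1, u1, fp, e2, u2⟩ := v.four (p2v h.pt.iv.piElt id.piElt (cs c)) (fun x hx => (l hx).1.1) f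
    fun x hx => ⟨(l hx).1.2, (l hx).2.2⟩
  have e1 := cent_le_cent1 (right_mem_V4 t d) e1
  have u1 := cent_le_cent1 (right_mem_V4 t d) u1
  obtain ⟨M, η, k⟩ := h.all he fp.l (e2 ▸ f.dT.2)
  have w := k.ps.vw
  have ue : u ∈ 𝐂₁ e := mem_cent1.2 fp.comm.symm
  have s : ∀ x, dt p (ρ d p) q (ρ d q) x = x → dt p q (ρ d p) (ρ d q) x = x := fun x hx => by
    rw [← notMem_support] at hx ⊢; rw [f.supp] at hx; rw [f.s2.supp]; grind
  have uz : u ∈ Cz M := k.vz hu ue (by rwa [e2, u2])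
  have ev := k.symm.lam fp.r ⟨ue, uz⟩ fp.ne.symm (cs e1) (cs u1)
  have nz : d ∉ Cz M := fun a => by
    have := sc_le (k.symm.fixz ⟨cs e1, a⟩ c)
    have := k.ty
    omega
  have dM := (k.symm.even (k.conj.symm.trans cj) (cs e1) ev nz).1
  obtain ⟨g, -, hg⟩ := v.conjK dN id.sq (sqm id.sq fp.r.sq (cs u1)) (by rwa [← mul_assoc, id.sq, one_mul])
    (by rw [v.mul dN (v.nK hu), u2, sc_blk dd f])
  have dM' := (k.symm.even (k.conj.symm.trans (cj.trans (isConj_iff.2 ⟨g, hg⟩))) (mul_mem (cs e1) ue)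
    (by rw [w.mul (w.nK dM) (Cz_norm M uz), w.cz uz, mul_one, ev]) (by rwa [mul_mem_cancel_right uz])).1
  exact fp.r.ne_one (kz w ((mul_mem_cancel_left dM).1 dM') fp.r.piElt uz)

theorem cls (cj : IsConj t d) (c : d ∈ 𝐂₁ t) : d ∈ Cz K ∨ (d ∈ K ∧ sc (ρ d) = 4) ∨ sc (ρ d) = 2 :=
  (em _).imp_right fun nz => (Int.units_eq_one_or _).imp (h.even cj c · nz) (h.odd cj c)

theorem ex1 : ∃ x ∈ 𝐂₁ t, Iv x ∧ sc (ρ x) = 2 :=
  let ⟨_, i, z, ne⟩ := h.ry; let ⟨x, a, b, _, c, d⟩ := h.x0 i z ne; ⟨x, b, a, h.odd c b d⟩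

theorem t1 (c : e ∈ 𝐂₁ t) (i : Iv e) (ty : sc (ρ e) = 2) : IsConj t e := by
  have v := h.pt.vw
  have N := fun x => h.cx.nrm h.pt (g := x)
  obtain ⟨y, iy, ⟨z, -⟩, ne⟩ := h.ry
  have f := h.fp iy z ne
  obtain ⟨x, ix, x1, x2, x3, x4⟩ := h.x1 iy z ne
  have xx := v.sq (N x x1) ix.sq
  obtain ⟨σ, s, hσ⟩ := AF.conj_of_sc' (v.sq (N e c) i.sq) xx (ty.trans (h.odd x3 x1 x4).symm)
  obtain ⟨l, hl, rfl⟩ := v.surj σ s
  have c' := mul_mem (mul_mem (h.pt.pc.le hl) c) (inv_mem (h.pt.pc.le hl))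
  obtain ⟨u, hu, o, ho, a⟩ := h.dec iy z ne (x := x * (l * e * l⁻¹)) ⟨mul_mem x1 c', (v.ker (N _ (mul_mem x1 c'))).1 (by
    rw [v.mul (N x x1) (N _ c'), v.conj (v.nK hl) (N e c), hσ, xx])⟩
  have uc := V4_le.2 ⟨self_mem_cent1 t, z.1⟩ hu
  have p2 : P2 (V4 t y ⊔ zpowers x) := f.pi.sup ix.piGrp (.inr (zp_le_norm (nv f x1 x2)))
  obtain ⟨o', -, b⟩ := CT.conj_mod (O_normal _ _) (O_pi _ _) (mul_mem x1 uc) c' (p2.elt (mul_mem
    (mem_sup_right (mem_zpowers x)) (mem_sup_left hu))) (i.conj l).piElt (by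
      have : l * e * l⁻¹ = x * u * o := by rw [mul_assoc x, a, ← mul_assoc, ix.sq, one_mul]
      rw [this]
      simpa [mul_assoc] using (O_normal _ _).conj_mem (mul_mem x1 uc) (inv_mem ho))
  have j : IsConj (x * u) e := (isConj_iff.2 ⟨_, b⟩).trans (isConj_iff.2 ⟨l, rfl⟩).symm
  have sq : x * u * (x * u) = 1 := by
    obtain ⟨g, hg⟩ := isConj_iff.1 j.symm
    rw [← hg, conj_mul, i.sq]; simp
  have q : ∀ u, x * u * (x * u) = x * u * x⁻¹ * u := fun u => by rw [ix.inv_eq, mul_assoc (x * u)]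
  refine .trans ?_ j
  rcases f.mem.1 hu with rfl | rfl | rfl | rfl
  · simpa using x3
  · refine x3.trans (isConj_iff.2 ⟨y, ?_⟩)
    have : y * x = x * (u * y) := by rw [← x2, ← mul_assoc, ← mul_assoc, ix.sq, one_mul, ix.inv_eq]
    rw [this, mul_assoc, mul_inv_cancel_right]
  · rw [q, x2, mul_assoc, iy.sq, mul_one] at sq
    exact absurd sq h.pt.iv.ne_one
  · rw [q, ← conj_mul, x2, cc x1, ← mul_assoc t, h.pt.iv.sq, one_mul, f.comm, ← mul_assoc, iy.sq, one_mul] at sq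
    exact absurd sq h.pt.iv.ne_one

end Sk

end Sa

open Sa in
theorem Sd.sd (h : Sd β n t K ρ s L μ) (ca : Ca β n) (uq : Uq β n) (m2 : M2 β n) :
    ∃ D Kf ρf, SD β n D Kf ρf := by
  have cx : Cx β n := ⟨ca, uq, m2⟩
  have c := h.pt.pc.le h.sK
  have k : Sk β n t K ρ s L μ := by
    obtain ⟨m, I, ν, j, F, l⟩ := h.le
    have := F.deg; have := h.ty; have := ca.n9
    obtain ⟨i, hi⟩ := id ca.odd
    obtain ⟨I', ν', j', F', p⟩ := h.pt.vw.fx h.pt.pc h.ps.iv c F.sN F.deg (by omega) (by omega)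
    exact ⟨⟨cx, h.pt, h.ps, c, h.ty, I', p, F'.le, (le_two p fun x hx e =>
      F.two (F'.le hx) (F'.cI hx) e fun _ => F'.fix hx).trans l⟩, h.sK⟩
  have : ∀ d, ∃ K ρ, IsConj t d → ∃ s L μ, Sk β n d K ρ s L μ := fun d => (em (IsConj t d)).elim
    (fun a => let ⟨K, ρ, b⟩ := k.cj a; ⟨K, ρ, fun _ => b⟩) fun a => ⟨K, ρ, (absurd · a)⟩
  choose Kf ρf hk using this
  have mp : ∀ {d}, IsConj t d → MP β n d (Kf d) (ρf d) := fun a => let ⟨_, _, _, b⟩ := hk _ a; b.pt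
  refine ⟨{d | IsConj t d}, Kf, ρf, ⟨ca, ⟨t, .refl t⟩, fun a b => isConj_iff.1 (a.symm.trans b),
    fun a g => a.trans (isConj_iff.2 ⟨g, rfl⟩), mp, fun a b => uq b (mp a)⟩, fun a z i => ?_, fun a => m2 (mp a),
    fun a i z ne => ?_, fun a => ?_, fun a b => ?_, fun a he i ty => ?_, fun a c i ty => ?_, fun a => ?_⟩ <;>
    obtain ⟨s, L, μ, k⟩ := hk _ a
  · exact ⟨a.trans (k.zD i z), (cx.lk k.pt (mp (a.trans (k.zD i z))) z).1⟩
  · exact ⟨k.syl i z ne, k.zle i z ne⟩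
  · exact k.lam
  · exact k.cls (a.symm.trans b)
  · have b := a.trans (k.all' he i ty).1
    have k' := (k.all' he i ty).2 (mp b)
    exact ⟨b, k'.symm.sK, k'.symm.ty, fun v => k'.vz⟩
  · exact a.trans (k.t1 c i ty)
  · exact k.ex1

end CF.Ub
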