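import Cfsg.Agent.Ub.A
import Cfsg.Agent.Ua.Pa
import Cfsg.Agent.Ua.Va

/-! Alternating 2-components which are nonsplit in a central cover: lifts of double transpositions. -/

set_option autoImplicit false
set_option linter.unusedSectionVars false

namespace CF.Ub

open Subgroup Cfsg CF.BG CF.Sig CF.Ab2 CF.Recog Equiv Equiv.Perm
open CF.GW hiding DT DC
open CF.Sol2A (ι PP Dn TB WF IC)
open CF.StA (dt D4 DT VV)
open CF.AF (sc th Sb Se)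
open CF.Kondo (Emb im)
open CF.Ua
open scoped commutatorElement

local notation "Alt" => alternatingGroup

universe u
variable {X E : Type u} [Group X] [Finite X] [Group E] [Finite E] {n m k N : ℕ}
  {a b c d e g l r s t v x y z : X} {A G H I J K L M P Q U W W' Y : Subgroup X} {β : X → Subgroup X → Prop}
  {ρ μ α η : X → Perm (Fin n)} {ν : X → Perm (Fin m)} {j : Fin m ↪ Fin n} {σ τ γ : Perm (Fin n)} {π : E →* X}
  {p q p' q' : Fin n} {D : Set X} {Kf : X → Subgroup X} {ρf : X → X → Perm (Fin n)}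

theorem cj_wz (g t : X) (K : Subgroup X) : cj g (wz t K) = wz (g * t * g⁻¹) (cj g K) := by
  have k : ∀ (g t : X) K, cj g (wz t K) ≤ wz (g * t * g⁻¹) (cj g K) := fun g t K =>
    cj_le_iff.2 (iSup₂_le fun y hy => cj_le_iff.1 ((cj_Oc 2 g y).le.trans (le_iSup₂_of_le (f := fun y _ => Oc 2 y) _
      ⟨hy.1.conj g, by rw [Zt, ← cj_cent1, ← cj_Cz, ← cj_inf]; exact conj_mem_cj.2 hy.2⟩ le_rfl)))
  refine (k g t K).antisymm (le_cj_iff.2 ((k _ _ _).trans ?_))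
  rw [cj_inv_cj, show g⁻¹ * (g * t * g⁻¹) * g⁻¹⁻¹ = t by group]

namespace Sc

theorem le_wz (i : Iv y) (z : y ∈ Zt t K) : Oc 2 y ≤ wz t K :=
  le_iSup₂_of_le (f := fun y (_ : y ∈ {y | Iv y ∧ y ∈ Zt t K}) => Oc 2 y) y ⟨i, z⟩ le_rfl

theorem fpz (it : Iv t) (i : Iv y) (z : y ∈ Zt t K) (ne : y ≠ t) : FP t y := ⟨it, i, (mem_cent1.1 z.1).symm, ne.symm⟩

theorem cm1 (v : Vw n K ρ) (cN : c ∈ 𝐍 K) (k : Commute σ (ρ c)) : ∀ x ∈ zpowers c, Commute σ (ρ x) := by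
  rintro _ ⟨i, rfl⟩; simp only [v.zpow cN]; exact k.zpow_right i

theorem cm2 (v : Vw n K ρ) (aN : a ∈ 𝐍 K) (bN : b ∈ 𝐍 K) (c : Commute a b) (k : Commute σ (ρ a)) (k' : Commute σ (ρ b)) :
    ∀ x ∈ V4 a b, Commute σ (ρ x) := fun x hx => by
  obtain ⟨y, hy, z, hz, rfl⟩ := (mem_sup_norm' (zpowers_le.2 (cent1_le_norm_zp a (mem_cent1.2 c.symm)))).1 hx
  rw [v.mul (zpowers_le.2 aN hy) (zpowers_le.2 bN hz)]
  exact (cm1 v aN k y hy).mul_right (cm1 v bN k' z hz)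

theorem iv_dt (v : Vw n K ρ) (aa : a * a = 1) (t : DT (ρ a)) : Iv a :=
  .mk' (fun q => by have := t.2; rw [q, v.one] at this; simp at this) aa

/-- lifting a double transposition into the centralizer of two commuting involutions -/
theorem lift5 (v : Vw n K ρ) (aN : a ∈ 𝐍 K) (bN : b ∈ 𝐍 K) (aa : a * a = 1) (bb : b * b = 1) (c : Commute a b) (t : DT σ)
    (k : Commute σ (ρ a)) (k' : Commute σ (ρ b)) : ∃ l ∈ K, l ∈ 𝐂₁ a ∧ l ∈ 𝐂₁ b ∧ Iv l ∧ ρ l = σ := by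
  obtain ⟨_, _, _, _, n4, rfl⟩ := t.ex'
  obtain ⟨l, hl, c', ll, e⟩ := v.lift2 (AF.two_sup (AF.two_zp aa) bb (cent1_le_norm_zp a (mem_cent1.2 c.symm)))
    (V4_le.2 ⟨aN, bN⟩) (mem_alternatingGroup.1 n4.alt) (cm2 v aN bN c k k') n4.sq
  rw [cent_V4] at c'
  exact ⟨l, hl, c'.1, c'.2, iv_dt v ll (e ▸ t), e⟩

theorem lift4 (v : Vw n K ρ) (cN : c ∈ 𝐍 K) (cc : c * c = 1) (t : DT σ) (k : Commute σ (ρ c)) :
    ∃ a ∈ K, a ∈ 𝐂₁ c ∧ Iv a ∧ ρ a = σ :=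
  let ⟨l, hl, c', _, q⟩ := lift5 v cN cN cc cc (.refl c) t k k
  ⟨l, hl, c', q⟩

theorem ex2 (v : Vw n K ρ) : ∃ a ∈ K, Iv a ∧ sc (ρ a) = 4 := by
  have := v.n5
  have n4 : D4 (⟨0, by omega⟩ : Fin n) ⟨1, by omega⟩ ⟨2, by omega⟩ ⟨3, by omega⟩ := by constructor <;> simp
  obtain ⟨a, ha, -, i, e⟩ := lift4 v (one_mem _) (mul_one 1) n4.dT (by rw [v.one]; exact .one_right _)
  exact ⟨a, ha, i, e ▸ n4.dT.2⟩

theorem ex2c (v : Vw n K ρ) (n6 : 6 ≤ n) (cN : c ∈ 𝐍 K) (cc : c * c = 1) : ∃ a ∈ K, a ∈ 𝐂₁ c ∧ Iv a ∧ sc (ρ a) = 4 := by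
  obtain ⟨δ, t, k⟩ := t2c n6 (v.sq cN cc)
  obtain ⟨a, ha, c', i, e⟩ := lift4 v cN cc t k
  exact ⟨a, ha, c', i, e ▸ t.2⟩

/-- an involution normalizing an elementary abelian group of order `8` -/
theorem fix8 {B : Subgroup X} (f : FP d e) (hd : d ∈ B) (ab : Abel B) (sq : ∀ x ∈ B, x * x = 1) (c8 : ♯B = 8)
    (zz : z * z = 1) (nB : z ∈ 𝐍 B) : ∃ x ∈ B, x ≠ 1 ∧ x ≠ d * e ∧ z ∈ 𝐂₁ x := by
  by_contra q
  push Not at q
  obtain ⟨c, hc, nc⟩ : ∃ c ∈ B, c ∉ V4 d e := by_contra fun k => by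
    push Not at k
    have := card_le_of_le (show B ≤ V4 d e from k); rw [f.card] at this; omega
  have k : ∀ x ∈ B, x ≠ 1 → x ≠ d * e → x * (z * x * z⁻¹) = d * e := fun x hx x1 x2 => by_contra fun k => by
    have m := conj_mem_of_norm nB hx
    refine q _ (mul_mem hx m) (fun k' => q x hx x1 x2 (mem_cent1.2 ?_)) k (mem_cent1.2 ?_)
    · rw [← sq x hx, mul_right_inj, mul_inv_eq_iff_eq_mul] at k'; exact k'
    · rw [← mul_inv_eq_iff_eq_mul, show z * (x * (z * x * z⁻¹)) * z⁻¹ = z * x * z⁻¹ * (z * z * x * (z * z)⁻¹) by group, zz,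
        one_mul, inv_one, mul_one, ab.mul_comm hx m]
  have l := left_mem_V4 d e
  have m := mul_mem l (right_mem_V4 d e)
  have k1 := k d hd f.l.ne_one (fun q => f.r.ne_one (by simpa using q))
  have k2 := k c hc (fun q => nc (q ▸ one_mem _)) (fun q => nc (q ▸ m))
  have k3 := k _ (mul_mem hc hd) (fun q => nc ((mul_mem_cancel_right l).1 (q ▸ one_mem _)))
    (fun q => nc ((mul_mem_cancel_right l).1 (q ▸ m)))
  rw [show c * d * (z * (c * d) * z⁻¹) = c * (d * (z * c * z⁻¹)) * (z * d * z⁻¹) by group,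
    ab.mul_comm hd (conj_mem_of_norm nB hc), ← mul_assoc c, k2, mul_assoc (d * e), k1, f.iv.sq] at k3
  exact f.iv.ne_one k3.symm

end Sc

end CF.Ub
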