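import Cfsg.Agent.Ub.A
import Cfsg.Agent.Ub.Sc

/-! Alternating 2-components which are nonsplit in a central cover: the end of the standard configuration. -/

set_option autoImplicit false
set_option linter.unusedSectionVars false

namespace CF.Ub

open Subgroup Cfsg CF.BG CF.Sig CF.Ab2 CF.Recog Equiv Equiv.Perm
open CF.GW hiding DT DC
open CF.Sol2A (ι PP Dn TB WF IC)
open CF.StA (dt D4 DT VV)
open CF.AF (sc th Sb Se)
open CF.Kondo (Emb im)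
open CF.Ua
open scoped commutatorElement

local notation "Alt" => alternatingGroup

universe u
variable {X E : Type u} [Group X] [Finite X] [Group E] [Finite E] {n m k N : ℕ}
  {a b c d e g l r s t v x y z : X} {A G H I J K L M P Q U W W' Y : Subgroup X} {β : X → Subgroup X → Prop}
  {ρ μ α η : X → Perm (Fin n)} {ν : X → Perm (Fin m)} {j : Fin m ↪ Fin n} {σ τ γ : Perm (Fin n)} {π : E →* X}
  {p q p' q' : Fin n} {D : Set X} {Kf : X → Subgroup X} {ρf : X → X → Perm (Fin n)}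

namespace Sc

variable (h : SD β n D Kf ρf)
include h

/-- the case of the trivial signalizer -/
theorem bot [IsSimpleGroup X] (ht : t ∈ D) (o : ∀ x ∈ D, Oc 2 x = ⊥) : Nonempty (X ≃* Alt (Fin (n + 4))) := by
  have oK : ∀ {x}, x ∈ D → 𝒪 (Kf x) = ⊥ := fun hx => eq_bot_of_forall fun y hy => by
    have := Sol2A.oH (pc h hx) hy (mem_top y)
    rwa [inf_top_eq, ← Oc, o _ hx, mem_bot] at this
  have cz : ∀ {x y}, x ∈ D → y ∈ Cz (Kf x) → y ∈ 𝐂 (Kf x) := fun hx hy =>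
    zpowers_le.1 (comm_eq_bot.1 (eq_bot_mono (oK hx) (comm_Cz (zpowers_le.2 hy))))
  have lk : ∀ {x r}, x ∈ D → Iv r → r ∈ 𝐂₁ x → r ∈ 𝐂 (Kf x) → r ∈ D ∧ Kf r = Kf x := fun {x r} hx i c c' => by
    have z : r ∈ Zt x (Kf x) := ⟨c, cent1_Cz (le_cent1_iff.2 c')⟩
    have rD := (h.zD hx z i).1
    obtain ⟨l1, l2, -⟩ := lnk h hx i z
    have l3 := (Sol2A.down (pc h hx) i.piElt z.2).2.1
    rw [oK rD, bot_sup_eq] at l2
    rw [oK hx, bot_sup_eq] at l3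
    exact ⟨rD, (l2.trans Sol2A.Dn_le).antisymm (l3.trans l1)⟩
  obtain ⟨y, iy, zy, ny⟩ := h.zV ht
  have tC := cz ht (h.mp ht).tz.2
  refine fin (vw h ht) (by have := h.n9; omega) (oK ht) (fun r i c => ?_) (fpz (iv h ht) iy zy ny) tC (cz ht zy.2)
  obtain ⟨P, hP, l⟩ := exists_syl_le (zpowers_le.2 tC) (iv h ht).piGrp
  obtain ⟨g, hg, q⟩ := hP.syl_cj_le (zpowers_le.2 c) i.piGrp
  have tP := l (mem_zpowers t)
  obtain ⟨z, hz, iz⟩ := exists_iv_of_two (K := P ⊓ 𝐂 P) hP.pi.inf_left (hP.pi.center_ne_bot fun e =>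
    (iv h ht).ne_one (mem_bot.1 (e ▸ tP)))
  obtain ⟨zD, e1⟩ := lk ht iz (mem_cent1.2 (hz.2 t tP).symm) (hP.le hz.1)
  have m := q (conj_mem_cj.2 (mem_zpowers r))
  obtain ⟨rD, e2⟩ := lk zD (i.conj g) (mem_cent1.2 (hz.2 _ m)) (e1 ▸ hP.le m)
  have := (pc h rD).cj p2 g⁻¹
  rwa [e2, e1, cj_of_norm (cent_le_norm _ (inv_mem hg)), cj_cent1, show g⁻¹ * (g * r * g⁻¹) * g⁻¹⁻¹ = r by group] at this

/-- every involution of the normalizer of the signalizer centralizes an element of the class with the same signalizer -/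
theorem near (ht : t ∈ D) (ne : 𝐍 (wz t (Kf t)) ≠ ⊤) (hc : c ∈ 𝐍 (wz t (Kf t))) (cc : c * c = 1) :
    ∃ e ∈ D, e ∈ 𝐂₁ c ∧ wz e (Kf e) = wz t (Kf t) := by
  obtain ⟨s, hs, i, ty⟩ := ex2 (vw h ht)
  obtain ⟨sD, tL, -⟩ := h.t2 ht hs i ty
  have cs := (pc h ht).le hs
  have ws := h.w_eq ht sD cs
  have ct := cen_w h ht
  have cM := ws ▸ cen_w h sD
  obtain ⟨M, hM⟩ : ∃ M, M = 𝐍 (wz t (Kf t)) := ⟨_, rfl⟩
  rw [← hM] at ne hc ct cM
  have pK : PC (Kf t) (M ⊓ 𝐂₁ t) := (inf_eq_right.2 ct).symm ▸ pc h ht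
  have pL : PC (Kf s) (M ⊓ 𝐂₁ s) := (inf_eq_right.2 cM).symm ▸ pc h sD
  obtain ⟨N, A, α, pA, -, oN, nN, vA, l⟩ := h.pum.lay (H := M) (fun q => ne (top_le_iff.1 q)) (iv h ht)
    (ct (self_mem_cent1 t)) ((CT.PComp.lbal i (ct cs) pL).le tL).1 pK le_top h.odd h.n9 (vw h ht)
  obtain ⟨j, F⟩ := vA.fx_le oN pA (iv h ht) (ct (self_mem_cent1 t)) pK l (vw h ht)
  have cN : c ∈ 𝐍 A := by_contra fun q => by
    have pA' := pA.cj_of_norm p2 (le_norm_self M hc)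
    have n' : A ≠ cj c A := fun e => q (cj_eq_self.1 e.symm)
    have dn := (Sol2A.down pA' i.piElt (pc_ne pA' pA n' (l hs))).1
    rw [inf_eq_right.2 cM] at dn
    obtain ⟨m, I, ν, j', F', l'⟩ := common h ht sD cs
    exact n' (CT.pc_eq_of_le p2 pA' pA F'.vI.pc (l'.trans ((pcK h sD dn).ge.trans Sol2A.Dn_le)) (F'.le.trans l))
  obtain ⟨e, he, ce, ie, te⟩ := ex2c vA (by have := h.n9; omega) cN cc
  obtain ⟨g, hg, rfl⟩ := vA.conjK (vA.nK (l hs)) i.sq ie.sq (mul_mem (l hs) he) (by rw [F.sc_eq hs, ty, te])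
  exact ⟨_, h.cl sD g, ce, by rw [← cj_w h sD, ws, cj_of_norm (hM ▸ pA.le hg)]⟩

end Sc

open Sc

theorem SD.fin [IsSimpleGroup X] (h : SD β n D Kf ρf) : Nonempty (X ≃* Alt (Fin (n + 4))) := by
  obtain ⟨t, ht⟩ := h.ne
  by_cases ne : 𝐍 (wz t (Kf t)) = ⊤
  · refine bot h ht fun x hx => ?_
    obtain ⟨g, rfl⟩ := h.one ht hx
    rcases (normalizer_eq_top_iff.1 ne).eq_bot_or_eq_top with e | e
    · rw [← cj_Oc, cj_eq_bot]; exact eq_bot_mono e (le_wz (iv h ht) (h.mp ht).tz)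
    · exact absurd (e ▸ mem_top t) (not_mem_of_odd (od_iff.2 (h.w_odd ht)) (iv h ht))
  obtain ⟨y, iy, zy, ny⟩ := h.zV ht
  have wM : ∀ x ∈ D, x ∈ 𝐍 (wz t (Kf t)) → wz x (Kf x) = wz t (Kf t) := fun x hx m => by
    obtain ⟨e, he, c, q⟩ := near h ht ne m (iv h hx).sq
    rw [← q, h.w_eq hx he c]
  refine (ze ne (fun s => (pc h ht).not_sol (s.mono ((pc h ht).le.trans (cen_w h ht)))) (fpz (iv h ht) iy zy ny) h.ne
    (fun d hd => h.cl hd) (fun d hd => iv h hd) (fun d hd => ?_) (fun d hd m g m' => ?_)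
    fun d hd e he m _ ne' c g m' => ?_).elim
  · obtain ⟨g, q⟩ := h.one hd ht; exact ⟨g, q ▸ cen_w h ht (self_mem_cent1 t)⟩
  · have := wM _ (h.cl hd g) m'
    rwa [← cj_w h hd, wM d hd m, cj_eq_self] at this
  · obtain ⟨x, hx, cx, q⟩ := near h ht ne m' (AF.csq (AF.mul_sq (iv h hd).sq (iv h he).sq c) g)
    have := h.w_mul hd he (mem_cent1.2 c.symm) ne' (h.cl hx g⁻¹) (by
      rw [← cj_cent1, mem_cj] at cx; simpa using cx)
    rwa [← cj_w h hx, q, wM d hd m, cj_eq_self, inv_mem_iff] at this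

end CF.Ub
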