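import Cfsg.Agent.Ub.A
import Cfsg.Agent.Ua.Xb
import Cfsg.Agent.Ua.Pa

/-! Mutually centralizing pairs: the signalizer attached to a maximal pair. -/

set_option autoImplicit false
set_option linter.unusedSectionVars false

namespace CF.Ub

open Subgroup Cfsg CF.BG CF.Sig CF.Ab2 CF.Recog Equiv Equiv.Perm
open CF.GW hiding DT DC
open CF.Sol2A (ι PP Dn TB WF IC)
open CF.StA (dt D4 DT VV)
open CF.AF (sc th Sb Se)
open CF.Kondo (Emb im)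
open CF.Ua
open scoped commutatorElement

local notation "Alt" => alternatingGroup

universe u
variable {X E : Type u} [Group X] [Finite X] [Group E] [Finite E] {n m k N : ℕ}
  {a b c d e g l r s t v x y z : X} {A G H I J K L M P Q U W W' Y : Subgroup X} {β : X → Subgroup X → Prop}
  {ρ μ α η : X → Perm (Fin n)} {ν : X → Perm (Fin m)} {j : Fin m ↪ Fin n} {σ τ γ : Perm (Fin n)} {π : E →* X}
  {p q p' q' : Fin n} {D : Set X} {Kf : X → Subgroup X} {ρf : X → X → Perm (Fin n)}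


namespace T
variable {a' b' c u : X} {p₁ p₂ p₃ p₄ : Fin n}

/-- a four-group of `K` which moves four points -/
structure VT (K : Subgroup X) (ρ : X → Perm (Fin n)) (a b : X) (p q r s : Fin n) : Prop where
  ha : a ∈ K
  hb : b ∈ K
  fp : FP a b
  d4 : D4 p q r s
  e1 : ρ a = dt p q r s
  e2 : ρ b = dt p r q s

theorem VT.le (h : VT K ρ a b p q p' q') : V4 a b ≤ K := V4_le.2 ⟨h.ha, h.hb⟩

theorem VT.vv (h : VT K ρ a b p q p' q') (v : Vw n K ρ) (hu : u ∈ V4 a b) : ρ u ∈ VV p q p' q' := by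
  rcases h.fp.mem.1 hu with rfl | rfl | rfl | rfl
  exacts [v.one ▸ one_mem _, h.e1 ▸ StA.m1, h.e2 ▸ StA.m2,
    by rw [v.mul (v.nK h.ha) (v.nK h.hb), h.e1, h.e2]; exact mul_mem StA.m1 StA.m2]

theorem VT.ne (h : VT K ρ a b p q p' q') (v : Vw n K ρ) (hu : u ∈ V4 a b) (u1 : u ≠ 1) : ρ u ≠ 1 :=
  fun e => u1 (v.inj2 (h.le hu) (h.fp.pi.elt hu) e)

theorem VT.sc (h : VT K ρ a b p q p' q') (v : Vw n K ρ) (hu : u ∈ V4 a b) (u1 : u ≠ 1) : sc (ρ u) = 4 :=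
  (h.d4.VV_dt (h.vv v hu) (h.ne v hu u1)).2

theorem VT.conj (h : VT K ρ a b p q p' q') (v : Vw n K ρ) (hg : g ∈ 𝐍 K) :
    VT K ρ (g * a * g⁻¹) (g * b * g⁻¹) (ρ g p) (ρ g q) (ρ g p') (ρ g q') :=
  ⟨(mem_norm.1 hg a).1 h.ha, (mem_norm.1 hg b).1 h.hb, h.fp.conj g, h.d4.map _,
    by rw [v.conj hg (v.nK h.ha), h.e1, StA.conj_dt], by rw [v.conj hg (v.nK h.hb), h.e2, StA.conj_dt]⟩

theorem VT.cj (h : VT (cj g K) (fun x => ρ (g⁻¹ * x * g)) a b p q p' q') :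
    VT K ρ (g⁻¹ * a * g⁻¹⁻¹) (g⁻¹ * b * g⁻¹⁻¹) p q p' q' :=
  ⟨by simpa using mem_cj.1 h.ha, by simpa using mem_cj.1 h.hb, h.fp.conj _, h.d4, by simpa using h.e1,
    by simpa using h.e2⟩

theorem th_cj (g a b : X) : th (V4 (g * a * g⁻¹) (g * b * g⁻¹)) = cj g (th (V4 a b)) := by rw [AF.cj_th, cj_V4]

theorem ex4 (v : Vw n K ρ) (p2 : P2 Q) (nQ : Q ≤ 𝐍 K) (d : D4 p q p' q')
    (c : ∀ x ∈ Q, ∀ σ ∈ VV p q p' q', Commute σ (ρ x)) : ∃ a b, VT K ρ a b p q p' q' ∧ V4 a b ≤ 𝐂 Q :=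
  let ⟨a, ha, b, hb, c1, c2, f, e1, e2⟩ := v.four p2 nQ d fun x m => ⟨c x m _ StA.m1, c x m _ StA.m2⟩
  ⟨a, b, ⟨ha, hb, f, d, e1, e2⟩, V4_le.2 ⟨c1, c2⟩⟩

theorem ex4z (v : Vw n K ρ) (p2 : P2 Q) (z : Q ≤ Cz K) (d : D4 p q p' q') :
    ∃ a b, VT K ρ a b p q p' q' ∧ V4 a b ≤ 𝐂 Q :=
  ex4 v p2 (z.trans (Cz_norm K)) d fun x m _ _ => by rw [v.cz (z m)]; exact .one_right _

theorem exD (v : Vw n K ρ) : ∃ p q r s : Fin n, D4 p q r s :=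
  let ⟨p, q, r, s, d, _⟩ := P.four (1 : Perm (Fin n)) (by have := v.n5; rw [AF.sc_zero.2 rfl]; omega)
  ⟨p, q, r, s, d⟩

theorem ex0 (v : Vw n K ρ) : ∃ a b p q r s, VT K ρ a b p q r s :=
  let ⟨_, _, _, _, d⟩ := exD v
  let ⟨_, _, k, _⟩ := ex4z v (piGrp_bot _) bot_le d
  ⟨_, _, _, _, _, _, k⟩

/-- extending an involution of type two -/
theorem ext (v : Vw n K ρ) (ha : a ∈ K) (i : Iv a) (d : D4 p q p' q') (e : ρ a = dt p q p' q') (p2 : P2 Q)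
    (nQ : Q ≤ 𝐍 K) (cQ : a ∈ 𝐂 Q) (c : ∀ x ∈ Q, Commute (dt p p' q q') (ρ x)) :
    ∃ b, VT K ρ a b p q p' q' ∧ V4 a b ≤ 𝐂 Q := by
  obtain ⟨b, hb, cb, bb, eb⟩ := v.lift2 (AF.two_sup p2 i.sq (cent_le_norm _ cQ))
    (sup_le nQ (zpowers_le.2 (v.nK ha))) d.s2.alt (fun x m => by
      obtain ⟨y, hy, z, hz, rfl⟩ := (mem_sup_norm' (zpowers_le.2 (cent_le_norm _ cQ))).1 m
      rw [v.mul (nQ hy) (zpowers_le.2 (v.nK ha) hz)]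
      refine (c y hy).mul_right ?_
      rcases i.mem_zpowers.1 hz with rfl | rfl
      exacts [v.one ▸ .one_right _, e ▸ d.comm.symm]) d.s2.sq
  exact ⟨b, ⟨ha, hb, ⟨i, .mk' (fun f => d.s2.dT.ne_one (by rw [← eb, f, v.one])) bb,
    cb a (mem_sup_right (mem_zpowers a)), fun f => d.ne (by rw [← e, f, eb])⟩, d, e, eb⟩,
    V4_le.2 ⟨cQ, cent_anti le_sup_left cb⟩⟩

theorem dT (v : Vw n K ρ) (ha : a ∈ K) (i : Iv a) (t : sc (ρ a) = 4) : DT (ρ a) := ⟨v.sq (v.nK ha) i.sq, t⟩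

theorem extz (v : Vw n K ρ) (ha : a ∈ K) (i : Iv a) (t : sc (ρ a) = 4) (p2 : P2 Q) (z : Q ≤ Cz K) (cQ : a ∈ 𝐂 Q) :
    ∃ b p q r s, VT K ρ a b p q r s ∧ V4 a b ≤ 𝐂 Q :=
  let ⟨_, _, _, _, d, e⟩ := (dT v ha i t).ex'
  let ⟨_, k⟩ := ext v ha i d e p2 (z.trans (Cz_norm K)) cQ fun x m => by rw [v.cz (z m)]; exact .one_right _
  ⟨_, _, _, _, _, k⟩

theorem modO (v : Vw n K ρ) (ha : a ∈ K) (hb : b ∈ K) (e : ρ a = ρ b) : a * b⁻¹ ∈ 𝒪 K :=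
  (v.kerO (mul_mem ha (inv_mem hb))).1 (by rw [v.mul (v.nK ha) (inv_mem (v.nK hb)), v.inv (v.nK hb), e, mul_inv_cancel])

theorem conj2 (v : Vw n K ρ) (h : VT K ρ a b p q p' q') (k : VT K ρ a' b' p q p' q') :
    ∃ o ∈ 𝒪 K, o * a * o⁻¹ = a' ∧ o * b * o⁻¹ = b' := by
  obtain ⟨o, ho, -, e⟩ := v.conjO (piGrp_bot _) bot_le (v.nK h.ha) (v.nK k.ha) (by simp) (by simp) h.fp.l.piElt
    k.fp.l.piElt (modO v h.ha k.ha (h.e1.trans k.e1.symm))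
  have oK := O_le _ _ ho
  have h' := h.conj v (v.nK oK)
  rw [e, (v.kerO oK).2 ho] at h'
  obtain ⟨o', ho', c, e'⟩ := v.conjO (AF.two_zp k.fp.l.sq) (zpowers_le.2 (v.nK k.ha)) (v.nK h'.hb) (v.nK k.hb)
    (cent_zpowers a' ▸ h'.fp.r_mem) (cent_zpowers a' ▸ k.fp.r_mem) h'.fp.r.piElt k.fp.r.piElt
    (modO v h'.hb k.hb (h'.e2.trans k.e2.symm))
  refine ⟨o' * o, mul_mem ho' ho, ?_, by rw [← e']; group⟩
  rw [show o' * o * a * (o' * o)⁻¹ = o' * (o * a * o⁻¹) * o'⁻¹ by group, e, ← c a' (mem_zpowers _),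
    mul_inv_cancel_right]

theorem th_O (v : Vw n K ρ) (h : VT K ρ a b p q p' q') (k : VT K ρ a' b' p q p' q') (l : 𝒪 K ≤ 𝐍 (th (V4 a b))) :
    th (V4 a' b') = th (V4 a b) := by
  obtain ⟨o, ho, rfl, rfl⟩ := conj2 v h k
  rw [th_cj, cj_of_norm (l ho)]

theorem le4 (f : FP a b) (o : Od H) (l : V4 a b ≤ 𝐍 H) (k : ∀ u ∈ V4 a b, u ≠ 1 → H ⊓ 𝐂₁ u ≤ W) : H ≤ W :=
  f.abel.le_of_cent1 f.not_cyc l (f.pi.coprime o) k

theorem oc_le (f : FP a b) (hc : c ∈ 𝐂 (V4 a b)) (k : ∀ u ∈ V4 a b, u ≠ 1 → Oc 2 c ⊓ 𝐂₁ u ≤ Oc 2 u) :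
    Oc 2 c ≤ th (V4 a b) :=
  le4 f (O_pi _ _) ((le_cent1_iff.2 hc).trans (O_normal _ _).norm) fun u m u1 => (k u m u1).trans (AF.le_th m u1)

theorem bal2 (ca : Ca β n) (k : MP β n d L μ) (i : Iv u) (z : u ∈ Zt d L) (hc : c ∈ L) (ic : Iv c) (cc : c ∈ 𝐂₁ u)
    (t : sc (μ c) = 4) : Oc 2 c ⊓ 𝐂₁ u ≤ Oc 2 u := by
  obtain ⟨L', μ', k', -, -, -, e, f⟩ := ca.link k i z
  refine k'.vw.bal1 ca.odd k'.pc ic (e c hc cc ic.piElt) ?_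
  have := ca.n9
  rw [(f c (k.vw.nK hc) (k.pc.le hc) cc).2]
  omega

/-- commuting four-groups in the kernels of each other -/
theorem th_le (ca : Ca β n) (k : MP β n d L μ) (f : FP a b) (z : V4 a b ≤ Zt d L) (h : VT L μ x y p q p' q')
    (c : V4 x y ≤ 𝐂 (V4 a b)) : th (V4 x y) ≤ th (V4 a b) :=
  AF.th_le fun w m w1 => oc_le f (c m) fun u hu u1 => bal2 ca k (f.iv_of_mem hu u1) (z hu) (h.le m)
    (h.fp.iv_of_mem m w1) (cent_le_cent1 hu (c m)) (h.sc k.vw m w1)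

theorem TW.th' (h : TW β n W d K ρ) (k : VT K ρ a b p q p' q') : th (V4 a b) = W :=
  h.th k.ha k.hb k.fp k.d4 k.e1 k.e2

end T
open T

theorem TW.cj (h : TW β n W d L ρ) (ca : Ca β n) (g : X) :
    TW β n (cj g W) (g * d * g⁻¹) (cj g L) fun x => ρ (g⁻¹ * x * g) := by
  refine ⟨h.mp.cj ca.bt trivial, fun ha hb f d e1 e2 => ?_, fun {l} hl i t => ?_⟩
  · rw [← TW.th' h (VT.cj ⟨ha, hb, f, d, e1, e2⟩), th_cj, cj_cj_inv]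
  · rw [← cj_norm, le_cj_iff, cj_cent1, inv_inv]
    exact h.cn (mem_cj.1 hl) (by simpa using i.conj g⁻¹) t

theorem th_eq (ca : Ca β n) (k : MP β n d K ρ) (k' : MP β n d L μ) (ne : K ≠ L) : ∃ a ∈ K, ∃ b ∈ K, ∃ x ∈ L, ∃ y ∈ L,
    ∃ p q r s : Fin n, D4 p q r s ∧ FP a b ∧ FP x y ∧ ρ a = dt p q r s ∧ ρ b = dt p r q s ∧ μ x = dt p q r s ∧
      μ y = dt p r q s ∧ th (V4 a b) = th (V4 x y) := by
  obtain ⟨a, b, p, q, r, s, h⟩ := ex0 k.vw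
  have z := h.le.trans (pc_ne k'.pc k.pc ne)
  obtain ⟨x, y, h', c⟩ := ex4z k'.vw h.fp.pi z h.d4
  exact ⟨a, h.ha, b, h.hb, x, h'.ha, y, h'.hb, p, q, r, s, h.d4, h.fp, h'.fp, h.e1, h.e2, h'.e1, h'.e2,
    (th_le ca k h'.fp (le_inf (h'.le.trans k'.pc.le) (h'.le.trans (pc_ne k.pc k'.pc ne.symm))) h (cent_symm c)).antisymm
      (th_le ca k' h.fp (le_inf (h.le.trans k.pc.le) z) h' c)⟩

theorem cent0 (ca : Ca β n) (k : MP β n d K ρ) (h : ∀ {a b p q r s}, a ∈ K → b ∈ K → FP a b → D4 p q r s →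
    ρ a = dt p q r s → ρ b = dt p r q s → th (V4 a b) = W) : 𝐂₁ d ≤ 𝐍 W := fun g hg => by
  have h' : ∀ {a b p q r s}, VT K ρ a b p q r s → th (V4 a b) = W := fun k => h k.ha k.hb k.fp k.d4 k.e1 k.e2
  rw [← cj_eq_self]
  by_cases e : K = cj g K
  · obtain ⟨a, b, p, q, r, s, v⟩ := ex0 k.vw
    rw [← h' v, ← th_cj, h' (v.conj k.vw (cj_eq_self.1 e.symm)), h' v]
  have k' := k.cj ca.bt (mem_top g)
  rw [mem_cent1.1 hg, mul_inv_cancel_right] at k'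
  obtain ⟨a, ha, b, hb, x, hx, y, hy, p, q, r, s, d, f, f', e1, e2, e3, e4, e⟩ := th_eq ca k k' e
  have t := h' (VT.cj ⟨hx, hy, f', d, e3, e4⟩)
  rw [th_cj, ← e, h ha hb f d e1 e2] at t
  rw [← t, cj_cj_inv, t]

theorem TW.uq (h : TW β n W d K ρ) (h' : TW β n W' d L μ) (ca : Ca β n) : W = W' := by
  by_cases e : K = L
  · subst e
    obtain ⟨σ, e⟩ := h.mp.vw.uniq h'.mp.vw (by have := ca.n9; omega)
    obtain ⟨a, b, p, q, r, s, v⟩ := ex0 h.mp.vw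
    rw [← TW.th' h v, h'.th v.ha v.hb v.fp (v.d4.map σ) (by rw [e a (h.mp.vw.nK v.ha), v.e1, StA.conj_dt])
      (by rw [e b (h.mp.vw.nK v.hb), v.e2, StA.conj_dt])]
  obtain ⟨a, ha, b, hb, x, hx, y, hy, p, q, r, s, d, f, f', e1, e2, e3, e4, e⟩ := th_eq ca h.mp h'.mp e
  rw [← h.th ha hb f d e1 e2, e, h'.th hx hy f' d e3 e4]

theorem TW.cent (h : TW β n W d K ρ) (ca : Ca β n) : 𝐂₁ d ≤ 𝐍 W := cent0 ca h.mp h.th

theorem TW.link (h : TW β n W d K ρ) (ca : Ca β n) (i : Iv r) (z : r ∈ Zt d K) :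
    ∃ L μ, TW β n W r L μ ∧ Dn K r ≤ L := by
  obtain ⟨L, μ, k, l, -, -, e, f⟩ := ca.link h.mp i z
  have v := h.mp.vw
  have up : ∀ x ∈ K, x ∈ 𝐂 (zpowers r) → x * x = 1 → x ∈ L ∧ μ x = ρ x := fun x m c xx => by
    rw [cent_zpowers] at c
    exact ⟨e x m c (StA.e2_sq xx), (f x (v.nK m) (h.mp.pc.le m) c).2⟩
  have ex : ∀ {p q p' q'}, D4 p q p' q' → ∃ a b, VT K ρ a b p q p' q' ∧ VT L μ a b p q p' q' := fun d =>
    let ⟨a, b, t, c⟩ := ex4z v (AF.two_zp i.sq) (zpowers_le.2 z.2) d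
    let ⟨a1, a2⟩ := up a t.ha (c (left_mem_V4 _ _)) t.fp.l.sq
    let ⟨b1, b2⟩ := up b t.hb (c (right_mem_V4 _ _)) t.fp.r.sq
    ⟨a, b, t, a1, b1, t.fp, d, a2.trans t.e1, b2.trans t.e2⟩
  have nO : 𝒪 L ≤ 𝐍 W := by
    obtain ⟨p, q, p', q', d⟩ := exD v
    obtain ⟨a, b, t, t'⟩ := ex d
    exact le4 t.fp (O_pi _ _) (t'.le.trans (O_normal _ _).norm) fun u m u1 =>
      inf_le_right.trans (h.cn (t.le m) (t.fp.iv_of_mem m u1) (t.sc v m u1))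
  refine ⟨L, μ, ⟨k, fun ha hb f d e1 e2 => ?_, fun {x} hx j t => ?_⟩, l⟩
  · obtain ⟨a, b, t, t'⟩ := ex d
    rw [th_O k.vw t' ⟨ha, hb, f, d, e1, e2⟩ (TW.th' h t ▸ nO), TW.th' h t]
  · have D := dT k.vw hx j t
    obtain ⟨y, hy, c, yy, ey⟩ := v.lift2 (AF.two_zp i.sq) (zpowers_le.2 (Cz_norm K z.2)) D.alt (fun w m => by
      rw [v.cz (zpowers_le.2 z.2 m)]; exact .one_right _) D.1
    obtain ⟨y1, y2⟩ := up y hy c yy
    obtain ⟨o, ho, -, rfl⟩ := k.vw.conjO (piGrp_bot _) bot_le (k.vw.nK y1) (k.vw.nK hx) (by simp) (by simp)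
      (StA.e2_sq yy) j.piElt (modO k.vw y1 hx (y2.trans ey))
    rw [← cj_cent1, ← cj_of_mem (nO ho)]
    exact cj_mono _ (h.cn hy (.mk' (fun e => j.ne_one (by simp [e])) yy) (ey ▸ t))

theorem MC.symm (h : MC β n a A α y Y η) : MC β n y Y η a A α :=
  ⟨h.py, h.pa, h.yA, h.aY, h.ty, h.ta, h.zy, h.za⟩

end CF.Ub
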