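import Cfsg.Agent.Ub.A
import Cfsg.Agent.Ub.Ta

/-! Mutually centralizing pairs: the signalizer is of odd order. -/

set_option autoImplicit false
set_option linter.unusedSectionVars false

namespace CF.Ub

open Subgroup Cfsg CF.BG CF.Sig CF.Ab2 CF.Recog Equiv Equiv.Perm
open CF.GW hiding DT DC
open CF.Sol2A (ι PP Dn TB WF IC)
open CF.StA (dt D4 DT VV)
open CF.AF (sc th Sb Se)
open CF.Kondo (Emb im)
open CF.Ua
open scoped commutatorElement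

local notation "Alt" => alternatingGroup

universe u
variable {X E : Type u} [Group X] [Finite X] [Group E] [Finite E] {n m k N : ℕ}
  {a b c d e g l r s t v x y z : X} {A G H I J K L M P Q U W W' Y : Subgroup X} {β : X → Subgroup X → Prop}
  {ρ μ α η : X → Perm (Fin n)} {ν : X → Perm (Fin m)} {j : Fin m ↪ Fin n} {σ τ γ : Perm (Fin n)} {π : E →* X}
  {p q p' q' : Fin n} {D : Set X} {Kf : X → Subgroup X} {ρf : X → X → Perm (Fin n)}


namespace T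
variable {a' b' c u e' : X} {B : Subgroup X} {p₁ p₂ p₃ p₄ : Fin n} {S T : Fin n → Prop}

/-- permutations which move all or no points of `S` and of `T`, and no other points -/
def Bk (S T : Fin n → Prop) (σ : Perm (Fin n)) : Prop := (∀ x, σ x ≠ x → S x ∨ T x) ∧
  ((∀ x, S x → σ x = x) ∨ ∀ x, S x → σ x ≠ x) ∧ ((∀ x, T x → σ x = x) ∨ ∀ x, T x → σ x ≠ x)

theorem Bk.fix (b : Bk S T σ) (e : Bk S T τ) (e' : Bk S T γ) (n1 : γ p ≠ p) (n2 : γ q = q) (n3 : τ q ≠ q)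
    (h1 : γ p' = p') (h2 : τ p' = p') : σ p' = p' := by
  obtain ⟨b, -⟩ := b
  obtain ⟨e1, e2, e3⟩ := e
  obtain ⟨f1, f2, f3⟩ := e'
  by_contra k
  have := b _ k
  have := e1 _ n3
  have := f1 _ n1
  grind

/-- the four points -/
def S4 (p q r s x : Fin n) : Prop := x = p ∨ x = q ∨ x = r ∨ x = s

theorem vfix (d : D4 p q p' q') (h : σ ∈ VV p q p' q') {x : Fin n} (k : ¬ S4 p q p' q' x) : σ x = x :=
  d.VV_fix h (fun e => k (.inl e)) (fun e => k (.inr (.inl e))) (fun e => k (.inr (.inr (.inl e))))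
    fun e => k (.inr (.inr (.inr e)))

theorem vall (d : D4 p q p' q') (h : σ ∈ VV p q p' q') :
    (∀ x, S4 p q p' q' x → σ x = x) ∨ ∀ x, S4 p q p' q' x → σ x ≠ x := by
  by_cases e : σ = 1
  · exact .inl fun x _ => by rw [e, one_apply]
  obtain ⟨e1, e2, e3, e4⟩ := d.VV_mv h e
  refine .inr ?_
  rintro x (rfl | rfl | rfl | rfl) <;> assumption

variable (d0 : D4 p q p' q') (d' : D4 p₁ p₂ p₃ p₄) (dj : ∀ x, S4 p q p' q' x → ¬ S4 p₁ p₂ p₃ p₄ x)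
  (h1 : σ ∈ VV p q p' q') (h2 : τ ∈ VV p₁ p₂ p₃ p₄)
include d0 d' dj h1 h2 in
theorem vcm : Commute σ τ := Perm.Disjoint.commute fun x =>
  (em (S4 p q p' q' x)).symm.imp (vfix d0 h1) fun k => vfix d' h2 (dj x k)

include d0 d' dj h1 h2 in
theorem vbk : Bk (S4 p q p' q') (S4 p₁ p₂ p₃ p₄) (σ * τ) := by
  have e1 : ∀ x, S4 p q p' q' x → (σ * τ) x = σ x := fun x k => by rw [mul_apply, vfix d' h2 (dj x k)]
  have e2 : ∀ x, S4 p₁ p₂ p₃ p₄ x → (σ * τ) x = τ x := fun x k => by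
    rw [(vcm d0 d' dj h1 h2).eq, mul_apply, vfix d0 h1 fun t => dj x t k]
  refine ⟨fun x k => by_contra fun t => k ?_, (vall d0 h1).imp (fun f x k => e1 x k ▸ f x k) fun f x k => e1 x k ▸ f x k,
    (vall d' h2).imp (fun f x k => e2 x k ▸ f x k) fun f x k => e2 x k ▸ f x k⟩
  rw [mul_apply, vfix d' h2 fun e => t (.inr e), vfix d0 h1 fun e => t (.inl e)]

theorem signal (e : Abelem 2 B) (k : 3 ≤ logn 2 (♯B))
    (H : ∀ a ∈ B, a ≠ 1 → ∀ b ∈ B, b ≠ 1 → ⁅Oc 2 a ⊓ 𝐂₁ b, B⁆ ≤ Oc 2 b) : ∃ Γ, Od Γ ∧ ∀ a ∈ B, a ≠ 1 → Oc 2 a ≤ Γ := by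
  have c : ∀ a ∈ B, 𝒪 (𝐂 B) ≤ 𝐂₁ a := fun a m => (O_le _ _).trans (cent_le_cent1 m)
  have c' : ∀ a ∈ B, B ≤ 𝐂₁ a := fun a m => e.abel.trans (cent_le_cent1 m)
  have n : ∀ a ∈ B, 𝒪 (𝐂 B) ≤ 𝐍 (Oc 2 a) := fun a m => (c a m).trans (O_normal _ _).norm
  have o : ∀ a ∈ B, Od (Oc 2 a ⊔ 𝒪 (𝐂 B)) := fun a m => (O_pi _ _).sup (O_pi _ _) (.inr (n a m))
  have s : SF 2 B fun a => Oc 2 a ⊔ 𝒪 (𝐂 B) := ⟨e, by omega, fun a m _ => sup_le (O_le _ _) (c a m), fun a m _ => o a m,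
    fun a m _ => norm_sup ((c' a m).trans (O_normal _ _).norm) (e.abel.trans (O_normal _ _).norm),
    fun a ha a1 b hb b1 => by
      rw [sup_inf_right (c b hb) (.inr (n a ha)), ← comm_sup_inf_cent (norm_inf ((c' a ha).trans (O_normal _ _).norm)
        (norm_of_le (c' b hb))) (cop2 e.pi (O_pi _ _).inf_left) (.inl e.pi.sol)]
      exact sup_le (sup_le ((H a ha a1 b hb b1).trans le_sup_left) (le_sup_of_le_right
        ((inf_le_inf_right _ inf_le_left).trans (O_inf_le (cent_le_cent1 ha) _)))) le_sup_right,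
    fun a m _ => od_sol (o a m)⟩
  exact ⟨_, (Cpl.ts_Gen s (s.cpl_two k)).pi, fun a ha a1 =>
    le_sup_left.trans (le_Gen_top (θ := fun a => Oc 2 a ⊔ 𝒪 (𝐂 B)) ha a1)⟩

variable (ca : Ca β n) (h : MC β n a A α y Y η)
include ca h

theorem cmz (lB : B ≤ Y ⊓ 𝐂₁ a) (ab : Abel B) (bk : ∀ b ∈ B, Bk S T (η b)) (he : e ∈ B) (ie : Iv e) (he' : e' ∈ B)
    (ie' : Iv e') : ⁅Oc 2 e ⊓ 𝐂₁ e', B⁆ ≤ Oc 2 e' := by
  have c : ∀ b ∈ B, B ≤ 𝐂₁ b := fun b m => ab.trans (cent_le_cent1 m)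
  have cy : B ≤ 𝐂₁ y := (lB.trans inf_le_left).trans h.py.pc.le
  have nY : B ≤ 𝐍 Y := norm_of_le (lB.trans inf_le_left)
  have rO : Oc 2 e ⊓ 𝐂₁ e' ≤ 𝒪 (𝐂₁ e' ⊓ 𝐂₁ e) := fun x m => inf_O_le inf_le_right _ ⟨⟨m.2, O_le _ _ m.1⟩, m.1⟩
  have cl := comm_le_left (norm_inf ((c e he).trans (O_normal {2}ᶜ _).norm) (norm_of_le (c e' he')))
  refine bal ie (c e' he' he) (cl.trans rO) fun J pJ => ?_
  have easy : e ∈ Cz J → ⁅Oc 2 e ⊓ 𝐂₁ e', B⁆ ≤ Cz J := fun z =>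
    cl.trans (rO.trans (pc_O_cent1 pJ (c e' he' he) ie.piElt z))
  obtain ⟨L, μ, k, -, -, -, e2, f⟩ := ca.link h.pa ie' ⟨(lB he').2, h.za (lB he')⟩
  by_cases eJ : L = J
  · obtain ⟨f1, f2⟩ := f e (Cz_norm _ (h.za (lB he))) (lB he).2 (c e' he' he)
    exact easy (eJ ▸ (k.vw.ker f1).1 (f2.trans (h.pa.vw.cz (h.za (lB he)))))
  obtain ⟨p0, cv, -⟩ := Sol2A.down pJ h.py.iv.piElt (pc_ne pJ k.pc eJ
    (e2 y h.yA (mem_cent1_comm.1 (cy he')) h.py.iv.piElt))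
  have nJ : ∀ b ∈ B, b ∈ 𝐍 (Dn J y) → b ∈ 𝐍 J := fun b m k => zpowers_le.1 (CT.pc_norm p2 pJ Sol2A.Dn_le
    (CT.not_CZ_of_le p2 p0 Sol2A.Dn_le) (norm_of_le (zpowers_le.2 (c e' he' m))) (zpowers_le.2 k))
  rcases h.py.vw.tri ca.odd h.py.pc ie' (cy he') (nY he') (inf_comm (𝐂₁ e') _ ▸ p0) with z | ⟨m, ν, j, F⟩
  · have l := le_inf (c e' he') cy
    have := pc_le_Cz p0 l fun x m => inf_O_le inf_le_right _ ⟨(commutator_mono l p0.le).trans (comm_le_left (le_norm_self _)) m, h.py.pc.subN.O_le _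
      (comm_Cz z (commutator_mono le_rfl (lB.trans inf_le_left) (commutator_comm B _ ▸ m)))⟩
    exact easy (Sol2A.cz_cov Sol2A.Dn_le cv (nJ e he (Cz_norm _ (this he))) (this he))
  have om : Odd m := by
    obtain ⟨i, hi⟩ := P.ev (h.py.vw.sq (nY he') ie'.sq)
    have := F.deg
    obtain ⟨t, ht⟩ := ca.odd
    exact ⟨t - i, by omega⟩
  obtain ⟨μ', v, eq⟩ := F.vI.up (by rintro rfl; exact absurd om (by decide)) (pc_self pJ) Sol2A.Dn_le cv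
  have fb : ∀ b ∈ B, b ∈ 𝐍 J ∧ ∀ i, η b (j i) = j (μ' b i) := fun b m =>
    let ⟨f1, f2⟩ := F.nrm (nY m) (c e' he' m)
    ⟨nJ b m f1, fun i => by rw [eq b (nJ b m f1) f1, f2]⟩
  refine commutator_le.2 fun g hg b hb => ?_
  obtain ⟨gN, g1, g2⟩ := v.otriv om pJ ie (c e' he' he) (fb e he).1 (rO hg)
  have bN := (fb b hb).1
  refine (v.ker (mul_mem (mul_mem (mul_mem gN bN) (inv_mem gN)) (inv_mem bN))).1 ?_
  rw [← commutatorElement_def, v.cm gN bN, commutatorElement_eq_one_iff_commute]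
  by_cases k : sc (μ' e) + 3 = m
  swap; · rw [g2 k]; exact .one_left _
  refine Perm.Disjoint.commute fun i => (em (μ' e i = i)).symm.imp (g1 i) fun t => j.injective ?_
  obtain ⟨x, hx⟩ : ∃ x, η e' x ≠ x := by_contra fun t => ie'.ne_one (h.py.vw.inj2 (lB he').1 ie'.piElt
    (Equiv.ext fun x => not_not.1 fun u => t ⟨x, u⟩))
  obtain ⟨z, hz, -⟩ := P.mv (μ' e) [] (by have := v.n5; simp only [List.length_nil]; omega)
  rw [← (fb b hb).2]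
  exact (bk b hb).fix (bk e he) (bk e' he') hx ((F.rng _).1 ⟨z, rfl⟩) (by rw [(fb e he).2]; exact j.injective.ne hz)
    ((F.rng _).1 ⟨i, rfl⟩) (by rw [(fb e he).2, t])

theorem odd (t : VT Y η a b p q p' q') : Od (th (V4 a b)) := by
  have v := h.py.vw
  obtain ⟨p₁, p₂, p₃, p₄, d, f1, f2, f3, f4⟩ := P.four (η a) (by have := ca.n9; rw [h.ta]; omega)
  have dj : ∀ x, S4 p q p' q' x → ¬ S4 p₁ p₂ p₃ p₄ x := fun x k => by
    have := (vall t.d4 (t.vv v (left_mem_V4 a b))).resolve_left fun e => t.d4.ab.symm (by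
      rw [← e p (.inl rfl), t.e1, t.d4.ap1])
    rintro (rfl | rfl | rfl | rfl) <;> exact this _ k ‹_›
  obtain ⟨w, w', t', c⟩ := ex4 v t.fp.pi (norm_of_le t.le) d fun x m σ s => (vcm t.d4 d dj (t.vv v m) s).symm
  replace c := c (left_mem_V4 _ _)
  have iw := t'.fp.l
  have nw : zpowers w ≤ 𝐍 (V4 a b) := zpowers_le.2 (cent_le_norm _ c)
  have ab : Abel (V4 a b ⊔ zpowers w) := t.fp.abel.sup (abel_zpowers w) (cent_symm (zpowers_le.2 c))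
  have lB : V4 a b ⊔ zpowers w ≤ Y ⊓ 𝐂₁ a := le_inf (sup_le t.le (zpowers_le.2 t'.ha))
    (ab.trans (cent_le_cent1 (mem_sup_left (left_mem_V4 a b))))
  have el : ∀ x ∈ V4 a b ⊔ zpowers w, x * x = 1 ∧ Bk (S4 p q p' q') (S4 p₁ p₂ p₃ p₄) (η x) := fun x m => by
    obtain ⟨u, hu, z, hz, rfl⟩ := (mem_sup_norm' nw).1 m
    have hz' : z ∈ V4 w w' := le_sup_left (a := zpowers w) hz
    refine ⟨?_, v.mul (v.nK (t.le hu)) (v.nK (t'.le hz')) ▸ vbk t.d4 d dj (t.vv v hu) (t'.vv v hz')⟩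
    rw [mul_assoc, ← mul_assoc z, ← zpowers_le.2 c hz u hu, mul_assoc, t'.fp.sq hz', mul_one, t.fp.sq hu]
  obtain ⟨Γ, o, l⟩ := signal (B := V4 a b ⊔ zpowers w) (.mk' p2 ab fun x m => (pow_two x).trans (el x m).1) (by
      rw [card_sup_of_inf_bot (.inr nw) (eq_bot_of_forall fun x hx => (iw.mem_zpowers.1 hx.2).resolve_right
        fun e => d.ab.symm (by
          rw [← vfix t.d4 (t.vv v (e ▸ hx.1)) fun k => dj p₁ k (.inl rfl), t'.e1, d.ap1])), t.fp.card, iw.card]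
      exact (logn_pow p2 3).ge) fun e he e1 e' he' e1' =>
    cmz ca h lB ab (fun x m => (el x m).2) he (.mk' e1 (el e he).1) he' (.mk' e1' (el e' he').1)
  exact o.le (AF.th_le fun u hu n => l u (mem_sup_left hu) n)

theorem th2 (pP : P2 P) (l : P ≤ Y ⊓ 𝐂₁ a) : ∃ b p q r s, VT A α y b p q r s ∧
    ∀ {u v p q r s}, VT Y η u v p q r s → V4 u v ≤ P → th (V4 u v) = th (V4 y b) := by
  obtain ⟨b, p, q, r, s, t, c⟩ := extz h.pa.vw h.yA h.py.iv h.ty pP (l.trans h.za)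
    (le_cent1_iff.1 ((l.trans inf_le_left).trans h.py.pc.le))
  exact ⟨b, p, q, r, s, t, fun t' k => (th_le ca h.py t.fp (le_inf t.fp.V4_le ((le_inf t.le t.fp.V4_le).trans h.zy)) t'
    (cent_symm (c.trans (cent_anti k)))).antisymm (th_le ca h.pa t'.fp (le_inf (k.trans (l.trans inf_le_right))
      (k.trans (l.trans h.za))) t (c.trans (cent_anti k)))⟩

omit ca in
theorem toA (hu : u ∈ Y) (i : Iv u) (t : sc (η u) = 4) : ∃ g ∈ Y, g * u * g⁻¹ = a :=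
  h.py.vw.conjK (h.py.vw.nK hu) i.sq h.pa.iv.sq (mul_mem hu h.aY) (t.trans h.ta.symm)

theorem ocy (t : VT Y η u v p q p' q') : Oc 2 y ≤ th (V4 u v) := by
  obtain ⟨g, hg, e⟩ := toA h t.ha t.fp.l (t.sc h.py.vw (left_mem_V4 _ _) t.fp.l.ne_one)
  have t' := t.conj h.py.vw (h.py.vw.nK hg)
  obtain ⟨b, _, _, _, _, t2, k⟩ := th2 ca h t'.fp.pi (le_inf t'.le (e ▸ t'.fp.V4_le))
  have := (AF.le_th (left_mem_V4 y b) h.py.iv.ne_one).trans (k t' le_rfl).ge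
  rwa [th_cj, le_cj_iff, cj_of_norm ((O_normal _ _).norm (inv_mem (h.py.pc.le hg)))] at this

theorem disj (t : VT Y η u v p q p' q') (t' : VT Y η a' b' p₁ p₂ p₃ p₄)
    (dj : ∀ x, S4 p q p' q' x → ¬ S4 p₁ p₂ p₃ p₄ x) : th (V4 a' b') = th (V4 u v) := by
  have vw := h.py.vw
  obtain ⟨x, z, t2, c⟩ := ex4 vw t.fp.pi (norm_of_le t.le) t'.d4 fun x m σ s => (vcm t.d4 t'.d4 dj (t.vv vw m) s).symm
  rw [th_O vw t2 t' (norm_of_le ((h.py.pc.subN.O_le _).trans (ocy ca h t2)))]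
  obtain ⟨g, hg, e⟩ := toA h t.ha t.fp.l (t.sc vw (left_mem_V4 _ _) t.fp.l.ne_one)
  have s1 := t.conj vw (vw.nK hg)
  have s2 := t2.conj vw (vw.nK hg)
  have c' : V4 (g * x * g⁻¹) (g * z * g⁻¹) ≤ 𝐂 (V4 (g * u * g⁻¹) (g * v * g⁻¹)) := by
    rw [← cj_V4, ← cj_V4, ← cj_cent]; exact cj_mono _ c
  obtain ⟨b, _, _, _, _, -, k⟩ := th2 ca h (s1.fp.pi.sup s2.fp.pi (.inr (c'.trans (cent_le_norm _))))
    (le_inf (sup_le s1.le s2.le) (e ▸ sup_le s1.fp.V4_le (c'.trans (cent_le_cent1 (left_mem_V4 _ _)))))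
  have := (k s2 le_sup_right).trans (k s1 le_sup_left).symm
  rwa [th_cj, th_cj, cj_inj] at this

theorem const (t : VT Y η u v p q p' q') (t' : VT Y η a' b' p₁ p₂ p₃ p₄) : th (V4 a' b') = th (V4 u v) := by
  have dj : ∀ {a b c d a' b' c' d' : Fin n}, _root_.Disjoint ({a, b, c, d} : Finset (Fin n)) {a', b', c', d'} →
      ∀ x, S4 a b c d x → ¬ S4 a' b' c' d' x := fun k x m m' =>
    Finset.disjoint_left.1 k (by simpa [S4] using m) (by simpa [S4] using m')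
  obtain ⟨s₁, s₂, s₃, s₄, d, f⟩ := P.four (dt p q p' q') (by have := ca.n9; rw [show sc _ = 4 from t.d4.dT.2]; omega)
  refine kn ca.n9 (fun S => ∀ {a b p q r s}, VT Y η a b p q r s → {p, q, r, s} = S → th (V4 a b) = th (V4 u v))
    d.card (fun t2 e => disj ca h t t2 (dj (e ▸ Finset.disjoint_left.2 fun x m m' => ?_)))
    (fun S T c _ k r _ _ _ _ _ _ t2 e => ?_) t'.d4.card t' rfl
  · rw [← t.d4.supp, mem_support] at m
    simp only [Finset.mem_insert, Finset.mem_singleton] at m'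
    rcases m' with rfl | rfl | rfl | rfl
    exacts [m f.1, m f.2.1, m f.2.2.1, m f.2.2.2]
  · obtain ⟨a, b, c, d, e1, e2, e3, e4, e5, e6, rfl⟩ := Finset.card_eq_four.1 c
    obtain ⟨x, z, t3, -⟩ := ex4z h.py.vw (piGrp_bot _) bot_le ⟨e1, e2, e3, e4, e5, e6⟩
    rw [disj ca h t3 t2 (dj (e ▸ k)), r t3 rfl]

theorem tw (k : ∀ {u v p q r s}, VT Y η u v p q r s → th (V4 u v) = W)
    (k' : ∀ {u v p q r s}, VT A α u v p q r s → th (V4 u v) = W) : TW β n W y Y η := by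
  refine ⟨h.py, fun ha hb f d e1 e2 => k ⟨ha, hb, f, d, e1, e2⟩, fun {l} hl i t => ?_⟩
  obtain ⟨g, hg, e⟩ := toA h hl i t
  rw [← cj_le_cj (g := g), cj_cent1, e, cj_of_mem (cent0 ca h.py (fun ha hb f d e1 e2 => k ⟨ha, hb, f, d, e1, e2⟩)
    (h.py.pc.le hg))]
  exact cent0 ca h.pa fun ha hb f d e1 e2 => k' ⟨ha, hb, f, d, e1, e2⟩

end T
open T

theorem MC.tw (h : MC β n a A α y Y η) (ca : Ca β n) : ∃ W, Od W ∧ TW β n W a A α ∧ TW β n W y Y η := by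
  obtain ⟨b, p, q, r, s, t, -⟩ := extz h.py.vw h.aY h.pa.iv h.ta (piGrp_bot _) bot_le (by simp)
  obtain ⟨c, _, _, _, _, t', e⟩ := th2 ca h t.fp.pi (le_inf t.le t.fp.V4_le)
  have k : ∀ {u v p q r s}, VT Y η u v p q r s → th (V4 u v) = th (V4 a b) := fun x => const ca h t x
  have k' : ∀ {u v p q r s}, VT A α u v p q r s → th (V4 u v) = th (V4 a b) := fun x =>
    (const ca h.symm t' x).trans (e t le_rfl).symm
  exact ⟨_, odd ca h t, T.tw ca h.symm k' k, T.tw ca h k k'⟩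

end CF.Ub
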