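import Cfsg.Agent.Ub.A
import Cfsg.Agent.Ub.Tb
import Cfsg.Agent.Ub.Z

/-! Mutually centralizing pairs: the two cases. -/

set_option autoImplicit false
set_option linter.unusedSectionVars false

namespace CF.Ub

open Subgroup Cfsg CF.BG CF.Sig CF.Ab2 CF.Recog Equiv Equiv.Perm
open CF.GW hiding DT DC
open CF.Sol2A (ι PP Dn TB WF IC)
open CF.StA (dt D4 DT VV)
open CF.AF (sc th Sb Se)
open CF.Kondo (Emb im)
open CF.Ua
open scoped commutatorElement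

local notation "Alt" => alternatingGroup

universe u
variable {X E : Type u} [Group X] [Finite X] [Group E] [Finite E] {n m k N : ℕ}
  {a b c d e g l r s t v x y z : X} {A G H I J K L M P Q U W W' Y : Subgroup X} {β : X → Subgroup X → Prop}
  {ρ μ α η : X → Perm (Fin n)} {ν : X → Perm (Fin m)} {j : Fin m ↪ Fin n} {σ τ γ : Perm (Fin n)} {π : E →* X}
  {p q p' q' : Fin n} {D : Set X} {Kf : X → Subgroup X} {ρf : X → X → Perm (Fin n)}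


namespace T
variable {a' b' c u : X} {A' Y' S : Subgroup X} {α' η' : X → Perm (Fin n)} {p₁ p₂ p₃ p₄ : Fin n}

theorem oc_bot (k : TW β n ⊥ a A α) (hu : u ∈ A) (i : Iv u) (t : sc (α u) = 4) : Oc 2 u = ⊥ :=
  let ⟨_, _, _, _, _, v, _⟩ := extz k.mp.vw hu i t (piGrp_bot _) bot_le (by simp)
  le_bot_iff.1 ((AF.le_th (left_mem_V4 _ _) i.ne_one).trans (TW.th' k v).le)

theorem odd_cz (h : PC I H) (o : Od Q) (l : Q ≤ H) (k : I ≤ 𝐍 Q) : Q ≤ Cz I :=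
  (le_O (normalIn_sup_left k) o).trans (pc_O_le (h.of_le p2 le_sup_right (sup_le l h.le)))

theorem off (n9 : 9 ≤ n) (d : D4 p q p' q') : ∃ p₁ p₂ p₃ p₄, D4 p₁ p₂ p₃ p₄ ∧ ∀ x, S4 p q p' q' x → ¬ S4 p₁ p₂ p₃ p₄ x := by
  obtain ⟨p₁, p₂, p₃, p₄, d', f1, f2, f3, f4⟩ := P.four (dt p q p' q') (by rw [show sc _ = 4 from d.dT.2]; omega)
  refine ⟨p₁, p₂, p₃, p₄, d', fun x k => ?_⟩
  have := (vall d StA.m1).resolve_left fun e => d.ab.symm (by rw [← e p (.inl rfl), d.ap1])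
  rintro (rfl | rfl | rfl | rfl) <;> exact this _ k ‹_›

theorem fxc (ca : Ca β n) (h : MC β n a A α y Y η) (k : TW β n ⊥ a A α) (hv : v ∈ A) (i : Iv v) (t : sc (α v) = 4) :
    ∃ I, PC I (𝐂₁ v) ∧ I ≤ A ∧ ∀ l ∈ A, l ∈ 𝐂₁ v → E2 l → (∀ p, α v p ≠ p → α l p = p) → l ∈ I := by
  have := ca.n9
  obtain ⟨m, hm⟩ := ca.odd
  obtain ⟨I, ν, j, F, pI⟩ := h.pa.vw.fx (m := n - 4) h.pa.pc i (h.pa.pc.le hv) (h.pa.vw.nK hv) (by omega) (by omega)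
    (by omega)
  refine ⟨I, ?_, F.le, fun l => F.two⟩
  obtain ⟨g, hg, e⟩ := toA h.symm hv i t
  have pY : PC (cj g⁻¹ Y) (𝐂₁ v) := by simpa [cj_cent1, ← e, mul_assoc] using h.py.pc.cj p2 g⁻¹
  have aY : a ∈ cj g⁻¹ Y := mem_cj_inv.2 (by rw [mem_cent1.1 (h.pa.pc.le hg), mul_inv_cancel_right]; exact h.aY)
  have z : I ≤ Cz (cj g⁻¹ Y) := by
    rw [← cj_Cz, ← cj_le_iff]
    exact (cj_mono g (le_inf F.le F.cI)).trans (by rw [cj_inf, cj_cent1, e, cj_of_mem hg]; exact h.zy)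
  rw [inf_comm] at pI
  obtain ⟨J, pJ, l⟩ := CT.pumpup p2 (pY.le aY) ((pow_two a).trans h.pa.iv.sq) pI
    (pI.le_PLay.trans (CT.lbal1 h.pa.iv (pY.le aY)))
  have ne : I ≤ J → cj g⁻¹ Y ≠ J := fun l e => CT.not_CZ_of_le p2 pI l (e ▸ z)
  replace l := l.resolve_right fun n => n.1 (Sol2A.pl_norm pJ (pY.le_PLay aY))
  have c : J ≤ 𝐂₁ a := le_cent1_iff.2 (zpowers_le.1 (comm_eq_bot.1 (le_bot_iff.1 ((comm_Cz (zpowers_le.2
    (pc_ne pJ pY (ne l) aY))).trans ((pJ.subN.O_le _).trans (oc_bot k hv i t).le)))))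
  rwa [pI.eq_of_le p2 (pJ.of_le p2 (le_inf pJ.le c) inf_le_left) l]

/-- the maximal pairs below the component `A'` of `N(W)` -/
def TA (β : X → Subgroup X → Prop) (n : ℕ) (W A' : Subgroup X) (c : X) : Prop := c ∈ Cz A' ∧ ∃ μ, TW β n W c (Dn A' c) μ

theorem le_Dn (pA : PC A' H) (z : c ∈ Cz A') (i : Iv c) (pI : PC I K) (l : I ≤ A') (l' : I ≤ 𝐂₁ c) : I ≤ Dn A' c :=
  (CT.pc_down1 p2 pA i.piElt z).2.2 I (pI.Op' p2) (le_inf l l')

theorem TA.of (ca : Ca β n) (pA : PC A' (𝐍 W)) (z : c ∈ Cz A') (k : TW β n W c L μ) (pI : PC I K) (l : I ≤ A')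
    (l' : I ≤ L) : TA β n W A' c := by
  have := (Sol2A.down pA k.mp.iv.piElt z).1
  rw [inf_of_le_right (k.cent ca)] at this
  exact ⟨z, μ, CT.pc_eq_of_le p2 this k.mp.pc pI (le_Dn pA z k.mp.iv pI l (l'.trans k.mp.pc.le)) l' ▸ k⟩

theorem TA.link (h : TA β n W A' c) (ca : Ca β n) (pA : PC A' (𝐍 W)) (i : Iv r) (cr : r ∈ 𝐂₁ c) (z : r ∈ Cz A') :
    TA β n W A' r := by
  obtain ⟨-, μ, k⟩ := h
  have z' := Sol2A.cz_dn Sol2A.Dn_le (Sol2A.Dn_norm (Cz_norm _ z) cr) z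
  obtain ⟨L, ν, k', l⟩ := k.link ca i ⟨cr, z'⟩
  exact .of ca pA z k' (Sol2A.down k.mp.pc i.piElt z').1 (Sol2A.Dn_le.trans Sol2A.Dn_le) l

theorem TA.cj (h : TA β n W A' c) (ca : Ca β n) (hg : g ∈ 𝐍 W) (hA : g ∈ 𝐍 A') : TA β n W A' (g * c * g⁻¹) := by
  obtain ⟨z, μ, k⟩ := h
  have := k.cj ca g
  rw [cj_of_norm hg, cj_PLay p2, cj_inf, cj_of_norm hA, cj_cent1] at this
  exact ⟨(mem_norm.1 (norm_le_of_cj cj_Cz _ hA) c).1 z, _, this⟩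

theorem syl_inf (h : SubN K H) (s : Syl 2 S H) : Syl 2 (S ⊓ K) K := by
  induction h generalizing S with
  | refl => rwa [inf_of_le_left s.le]
  | step k n ih => simpa only [inf_assoc, inf_of_le_right k.le] using ih (s.inf_normal n)

theorem cm (ca : Ca β n) (pA : PC A' (𝐍 W)) (pY : PC Y' (𝐍 W)) (ne : Y' ≠ A') (v : Vw n Y' η') (ha : a ∈ Y')
    (t : sc (η' a) = 4) (h : TA β n W A' a) (i : Iv c) (hc : c ∈ 𝐍 W) (z : c ∈ Cz A') : TA β n W A' c := by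
  have zY := pc_ne pA pY ne
  have ia : Iv a := let ⟨_, _, k⟩ := h; k.mp.iv
  have all : ∀ u ∈ Y', u * u = 1 → sc (η' u) = 4 → TA β n W A' u := fun u hu uu tu => by
    obtain ⟨g, hg, rfl⟩ := v.conjK (v.nK ha) ia.sq uu (mul_mem ha hu) (t.trans tu.symm)
    exact h.cj ca (pY.le hg) (Cz_norm _ (zY hg))
  by_cases cN : c ∈ 𝐍 Y'
  · obtain ⟨δ, D, cδ⟩ := t2c (by have := ca.n9; omega) (v.sq cN i.sq)
    obtain ⟨u, hu, cu, uu, e⟩ := v.lift2 (AF.two_zp i.sq) (zpowers_le.2 cN) D.alt (fun w m => by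
      rcases i.mem_zpowers.1 m with rfl | rfl
      exacts [v.one ▸ .one_right _, cδ]) D.1
    exact (all u hu uu (e ▸ D.2)).link ca pA i (mem_cent1.2 (cu c (mem_zpowers c))) z
  obtain ⟨S, s, l⟩ := exists_syl_le (zpowers_le.2 hc) (AF.two_zp i.sq)
  obtain ⟨g, hg, m⟩ := (syl_inf pY.subN s).syl_cj_le (zpowers_le.2 ha) (AF.two_zp ia.sq)
  rw [cj_zpowers, zpowers_le] at m
  have tu : sc (η' (g * a * g⁻¹)) = 4 := by rw [v.conj (v.nK hg) (v.nK ha), AF.sc_conj, t]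
  have iu := ia.conj g
  generalize g * a * g⁻¹ = u at m tu iu
  have cS := l (mem_zpowers c)
  have z' : c * u * c⁻¹ ∈ Cz Y' := pc_ne pY (pY.cj_of_norm p2 (le_norm_self _ hc)) (fun e => cN (cj_eq_self.1 e))
    (conj_mem_cj.2 m.2)
  have mS : c * u * c⁻¹ ∈ S := mul_mem (mul_mem cS m.1) (inv_mem cS)
  have f : FP u (c * u * c⁻¹) := ⟨iu, iu.conj c, (commutatorElement_eq_one_iff_mul_comm.1 (eq_one_of_mem_bot
    (s.pi.inf_eq_bot (O_pi _ Y')) ⟨mul_mem (mul_mem (mul_mem mS m.1) (S.inv_mem mS)) (S.inv_mem m.1),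
      comm_Cz (zpowers_le.2 z') (commutator_mem_commutator (mem_zpowers _) m.2)⟩)).symm,
    fun e => by rw [e, v.cz z', AF.sc_zero.2 rfl] at tu; omega⟩
  refine ((all u m.2 iu.sq tu).link ca pA f.iv f.mul.r_mem (mul_mem (zY m.2)
    ((mem_norm.1 (norm_le_of_cj cj_Cz _ (Cz_norm _ z)) u).1 (zY m.2)))).link ca pA i (mem_cent1.2 ?_) z
  rw [← mul_inv_eq_iff_eq_mul, ← conj_mul, show c * (c * u * c⁻¹) * c⁻¹ = c * c * u * (c * c)⁻¹ by group, i.sq]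
  simpa using f.comm.symm

theorem pum (ca : Ca β n) (h : MC β n a A α y Y η) (k : TW β n W a A α) (k' : TW β n W y Y η) (ne : 𝐍 W ≠ ⊤) :
    ∃ (N : ℕ) (A' : Subgroup X) (α' : X → Perm (Fin N)), PC A' (𝐍 W) ∧ Odd N ∧ Vw N A' α' ∧ A ≤ A' ∧
      ∃ j, Fx N A' α' a n A α j := by
  have ca' := k.cent ca
  have cy := k'.cent ca
  have pA : PC A (𝐍 W ⊓ 𝐂₁ a) := by rw [inf_of_le_right ca']; exact h.pa.pc
  have aM := ca' (self_mem_cent1 a)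
  obtain ⟨N, A', α', p, -, o, -, v, l⟩ := ca.pum.lay (fun e => ne (top_le_iff.1 e)) h.pa.iv aM (CT.lbal1
    h.py.iv (cy (self_mem_cent1 y)) (by rw [inf_of_le_right cy]; exact h.py.pc.le_PLay h.aY)) pA le_top ca.odd
    ca.n9 h.pa.vw
  exact ⟨N, A', α', p, o, v, l, v.fx_le o p h.pa.iv aM pA l h.pa.vw⟩

end T
open T

theorem MC.bot [IsSimpleGroup X] (h : MC β n a A α y Y η) (ca : Ca β n) (k : TW β n ⊥ a A α) (k' : TW β n ⊥ y Y η) :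
    Nonempty (X ≃* Alt (Fin (n + 4))) := by
  have v := h.pa.vw
  obtain ⟨r, _, _, _, _, t, -⟩ := extz h.py.vw h.aY h.pa.iv h.ta (piGrp_bot _) bot_le (by simp)
  have oA : 𝒪 A = ⊥ := le_bot_iff.1 ((h.pa.pc.subN.O_le _).trans (oc_bot k' h.aY h.pa.iv h.ta).le)
  refine ca.fin h.pa oA t.fp.r ⟨t.fp.r_mem, h.za ⟨t.hb, t.fp.r_mem⟩⟩ t.fp.ne.symm fun s L μ m l => ?_
  obtain ⟨b, c, p, q, p', q', t⟩ := ex0 v
  obtain ⟨p₁, p₂, p₃, p₄, d, dj⟩ := off ca.n9 t.d4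
  obtain ⟨w, w', t', cw⟩ := ex4 v t.fp.pi (norm_of_le t.le) d fun x m σ s => (vcm t.d4 d dj (t.vv v m) s).symm
  replace cw := cw (left_mem_V4 _ _)
  have nO : A ≤ 𝐍 (𝒪 L) := l.trans (O_normal _ _).norm
  have c1 : 𝒪 L ≤ 𝐂₁ w := le4 t.fp (O_pi _ _) (t.le.trans nO) fun u hu u1 => by
    have iu := t.fp.iv_of_mem hu u1
    have tu := t.sc v hu u1
    obtain ⟨I, pI, lI, e⟩ := fxc ca h k (t.le hu) iu tu
    refine le_cent1_iff.2 (cent_symm (comm_eq_bot.1 (le_bot_iff.1 ((comm_Cz (odd_cz pI (O_pi _ _).inf_left inf_le_right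
      (norm_inf (lI.trans nO) (norm_of_le pI.le)))).trans ((pI.subN.O_le _).trans (oc_bot k (t.le hu) iu tu).le))))
      (e w t'.ha (cent_le_cent1 hu cw) t'.fp.l.piElt fun x hx => ?_))
    exact vfix d (t'.vv v (left_mem_V4 _ _)) (dj x (not_not.1 fun f => hx (vfix t.d4 (t.vv v hu) f)))
  have c2 : A ≤ 𝐂 (𝒪 L) := pc_le h.pa.pc (norm_cent nO) t'.ha (le_cent1_iff.1 c1) fun z =>
    t'.ne v (left_mem_V4 _ _) t'.fp.l.ne_one (v.cz z)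
  exact (CT.le_of_Op' p2 (m.pc.Op' p2) (O_pi _ _) ((cent_symm c2).trans (cent_le_norm _)) (m.vw.cover v l)).antisymm l

theorem MC.mm (h : MC β n a A α y Y η) (ca : Ca β n) (k : TW β n W a A α) (k' : TW β n W y Y η) (ne : 𝐍 W ≠ ⊤) :
    ∃ F, Mm n (𝐍 W) F := by
  obtain ⟨N, A', α', pA, oA, vA, lA, j, F⟩ := pum ca h k k' ne
  obtain ⟨N', Y', η', pY, oY, vY, lY, j', F'⟩ := pum ca h.symm k' k ne
  have n9 := ca.n9
  have nn : Y' ≠ A' := by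
    rintro rfl
    obtain rfl := vA.deg vY
    obtain ⟨i, F'⟩ := vA.fx_le oA pA h.py.iv (pA.le (lA h.yA)) (by rw [inf_of_le_right (k'.cent ca)]; exact h.py.pc) lY
      h.py.vw
    have ta := (F'.sc_eq h.aY).trans h.ta
    have ty := (F.sc_eq h.yA).trans h.ty
    have dg := F.deg
    have f : FP a y := .mk' h.pa.iv h.py.iv (h.pa.pc.le h.yA) fun e =>
      h.pa.vw.cz (e ▸ h.pa.tz.2) ▸ h.ty |> fun t => by rw [AF.sc_zero.2 rfl] at t; omega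
    have fx : ∀ l : List (Fin N), l.length < 4 → ∃ x, α' a x = x ∧ α' y x = x ∧ x ∉ l := fun l c =>
      let ⟨x, e, m⟩ := P.fx (α' a) (l ++ (α' y).support.toList) (by
        rw [List.length_append, Finset.length_toList]; change _ + sc _ + _ < _; omega)
      ⟨x, e, not_not.1 fun t => m (List.mem_append_right _ (by simpa using t)),
        fun t => m (List.mem_append_left _ t)⟩
    obtain ⟨p, a1, y1, -⟩ := fx [] (by simp)
    obtain ⟨q, a2, y2, n2⟩ := fx [p] (by simp)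
    obtain ⟨r, a3, y3, n3⟩ := fx [p, q] (by simp)
    obtain ⟨s, a4, y4, n4⟩ := fx [p, q, r] (by simp)
    simp only [List.mem_cons, List.not_mem_nil, or_false, not_or] at n2 n3 n4
    have d : D4 p q r s := ⟨Ne.symm n2, Ne.symm n3.1, Ne.symm n4.1, Ne.symm n3.2, Ne.symm n4.2.1, Ne.symm n4.2.2⟩
    have lV : V4 a y ≤ Y' := V4_le.2 ⟨lY h.aY, lA h.yA⟩
    have cc : ∀ {σ : Perm (Fin N)}, σ p = p → σ q = q → σ r = r → σ s = s → Commute (dt p q r s) σ ∧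
        ∀ x, σ x ≠ x → dt p q r s x = x := fun e1 e2 e3 e4 => ⟨(P.sw' e1 e2).mul_left (P.sw' e3 e4), fun x m =>
      StA.dt_fix (fun e => m (e ▸ e1)) (fun e => m (e ▸ e2)) (fun e => m (e ▸ e3)) fun e => m (e ▸ e4)⟩
    obtain ⟨l, hl, cl, ll, e⟩ := vA.lift2 f.pi (norm_of_le lV) d.alt (fun x m => by
      rcases f.mem.1 m with rfl | rfl | rfl | rfl
      exacts [vA.one ▸ .one_right _, (cc a1 a2 a3 a4).1, (cc y1 y2 y3 y4).1, by
        rw [vA.mul (vA.nK (lY h.aY)) (vA.nK (lA h.yA))]; exact (cc a1 a2 a3 a4).1.mul_right (cc y1 y2 y3 y4).1]) d.sq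
    rw [cent_V4] at cl
    have := (F.cz (vA.nK hl) cl.1).1 (h.za ⟨F'.two hl cl.2 (StA.e2_sq ll) (e ▸ (cc y1 y2 y3 y4).2), cl.1⟩) p a1
    rw [e, d.ap1] at this
    exact d.ab this.symm
  have zA := pc_ne pA pY nn (lY h.aY)
  have zY := pc_ne pY pA nn.symm (lA h.yA)
  obtain rfl : n = N := by have := F.deg; rwa [vA.cz zA, AF.sc_zero.2 rfl, zero_add] at this
  obtain rfl : n = N' := by have := F'.deg; rwa [vY.cz zY, AF.sc_zero.2 rfl, zero_add] at this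
  have key : ∀ {B c}, B ∈ {B | ∃ g ∈ 𝐍 W, B = cj g A' ∨ B = cj g Y'} → Iv c → c ∈ 𝐍 W → c ∈ Cz B →
      ∃ L μ, TW β n W c L μ := by
    rintro B c ⟨g, hg, e⟩ i hc z
    have m : g⁻¹ * c * g ∈ 𝐍 W := mul_mem (mul_mem (inv_mem hg) hc) hg
    obtain ⟨L, μ, t⟩ : ∃ L μ, TW β n W (g⁻¹ * c * g) L μ := by
      rcases e with rfl | rfl <;> rw [← cj_Cz, mem_cj] at z
      · exact ⟨_, (cm ca pA pY nn vY (lY h.aY) ((F'.sc_eq h.aY).trans h.ta) (.of ca pA zA k h.pa.pc lA le_rfl)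
          (by simpa using i.conj g⁻¹) m z).2⟩
      · exact ⟨_, (cm ca pY pA nn.symm vA (lA h.yA) ((F.sc_eq h.yA).trans h.ty) (.of ca pY zY k' h.py.pc lY le_rfl)
          (by simpa using i.conj g⁻¹) m z).2⟩
    have := t.cj ca g
    rw [cj_of_norm hg, show g * (g⁻¹ * c * g) * g⁻¹ = c by group] at this
    exact ⟨_, _, this⟩
  refine ⟨{B | ∃ g ∈ 𝐍 W, B = cj g A' ∨ B = cj g Y'}, ca.odd, n9, ⟨_, 1, one_mem _, .inl rfl⟩, ?_, ?_, ?_, ?_,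
    fun hB i hc z => let ⟨_, _, t⟩ := key hB i hc z; t.cent ca, fun {_ _ c g} hB hB' i hc z hc' z' => ?_⟩
  · rintro _ ⟨g, hg, rfl | rfl⟩
    exacts [pA.cj_of_norm p2 (le_norm_self _ hg), pY.cj_of_norm p2 (le_norm_self _ hg)]
  · rintro _ ⟨g, hg, rfl | rfl⟩
    exacts [⟨_, vA.cj g⟩, ⟨_, vY.cj g⟩]
  · rintro _ x ⟨g, hg, e⟩ hx
    exact ⟨x * g, mul_mem hx hg, e.imp (fun e => by rw [e, cj_cj]) fun e => by rw [e, cj_cj]⟩
  · rintro _ ⟨g, hg, rfl | rfl⟩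
    exacts [⟨_, ⟨g, hg, .inr rfl⟩, by simpa using nn⟩, ⟨_, ⟨g, hg, .inl rfl⟩, by simpa using nn.symm⟩]
  · obtain ⟨_, _, t⟩ := key hB i hc z
    obtain ⟨_, _, t'⟩ := key hB' (i.conj g) hc' z'
    exact cj_eq_self.1 ((t.cj ca g).uq t' ca)

end CF.Ub
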